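import Cfsg.Agent.H59.ONOut.CentModel

/-!
Centralisers of an element of order 19 and of an element of order 6 in the model of `L₃(7):2`.
-/

set_option autoImplicit false
set_option Elab.async false
set_option maxRecDepth 20000

namespace Cfsg.Agent.H59.ONOut

open Cfsg.Agent.H45.OnWModel

/-- word of the element of order 19 -/
def wX : List (Fin 6) := [0, 1, 2, 3, 4, 5]

/-- word of the element of order 6 -/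
def wN : List (Fin 6) := [1, 3, 2, 3, 2, 1, 4, 3, 2, 1, 3, 2, 5, 4, 3, 2, 1, 3, 2, 4, 3, 2, 3]

/-- the element of order 19 -/
def specX : Spec where
  w := wX
  p := ⟨2, 4, 3, 2, 5, 6, 1, 4, 1⟩
  pd := ⟨2, 4, 3, 1, 6, 3, 2, 1, 2⟩
  r0 := ⟨1, 0, 5, 0, 2, 4, 0, 3, 1⟩
  r1 := ⟨1, 5, 0, 0, 1, 0, 0, 6, 4⟩
  o := none
  elts := [
    ⟨(List.replicate 0 wX).flatten, ⟨1, 0, 0, 0, 1, 0, 0, 0, 1⟩, false⟩,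
    ⟨(List.replicate 1 wX).flatten, ⟨2, 4, 3, 2, 5, 6, 1, 4, 1⟩, false⟩,
    ⟨(List.replicate 2 wX).flatten, ⟨1, 5, 5, 6, 1, 0, 4, 0, 0⟩, false⟩,
    ⟨(List.replicate 3 wX).flatten, ⟨3, 0, 3, 0, 1, 3, 1, 2, 5⟩, false⟩,
    ⟨(List.replicate 4 wX).flatten, ⟨2, 3, 5, 5, 3, 2, 4, 6, 6⟩, false⟩,
    ⟨(List.replicate 5 wX).flatten, ⟨1, 1, 1, 4, 1, 0, 5, 0, 5⟩, false⟩,
    ⟨(List.replicate 6 wX).flatten, ⟨5, 6, 3, 3, 0, 4, 1, 5, 6⟩, false⟩,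
    ⟨(List.replicate 7 wX).flatten, ⟨4, 6, 5, 3, 0, 6, 4, 4, 4⟩, false⟩,
    ⟨(List.replicate 8 wX).flatten, ⟨4, 3, 4, 5, 1, 1, 6, 3, 5⟩, false⟩,
    ⟨(List.replicate 9 wX).flatten, ⟨4, 5, 6, 6, 1, 1, 2, 3, 6⟩, false⟩,
    ⟨(List.replicate 10 wX).flatten, ⟨3, 2, 6, 1, 5, 4, 2, 5, 2⟩, false⟩,
    ⟨(List.replicate 11 wX).flatten, ⟨2, 4, 6, 2, 3, 2, 2, 6, 3⟩, false⟩,
    ⟨(List.replicate 12 wX).flatten, ⟨4, 3, 1, 5, 3, 5, 5, 1, 3⟩, false⟩,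
    ⟨(List.replicate 13 wX).flatten, ⟨1, 0, 3, 0, 6, 3, 1, 2, 3⟩, false⟩,
    ⟨(List.replicate 14 wX).flatten, ⟨5, 2, 6, 1, 0, 4, 2, 5, 4⟩, false⟩,
    ⟨(List.replicate 15 wX).flatten, ⟨6, 5, 5, 6, 6, 0, 4, 0, 5⟩, false⟩,
    ⟨(List.replicate 16 wX).flatten, ⟨6, 6, 4, 3, 5, 5, 6, 1, 3⟩, false⟩,
    ⟨(List.replicate 17 wX).flatten, ⟨0, 0, 2, 0, 1, 2, 3, 6, 6⟩, false⟩,
    ⟨(List.replicate 18 wX).flatten, ⟨2, 1, 2, 4, 6, 1, 3, 3, 2⟩, false⟩]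

/-- words of the centraliser of the element of order 6 -/
def cwWords : List (List (Fin 6)) := [
  [],
  [1, 0, 2, 1, 5, 4, 3, 2, 3, 2, 1, 4, 3, 2, 1, 3, 2, 3, 4, 3, 2, 1],
  [1, 2, 3, 4, 3, 2, 1, 3, 2, 1, 3, 2, 4, 3, 2, 1, 0, 3, 2, 1, 4, 5],
  [1, 3, 2, 3, 2, 1, 4, 3, 2, 1, 3, 2, 5, 4, 3, 2, 1, 3, 2, 4, 3, 2, 3],
  [3, 2, 3, 2, 1, 4, 3, 2, 3, 2, 1, 4, 3, 2, 1, 3, 2, 5, 4, 3, 2, 1, 3],
  [3, 2, 1, 3, 2, 3, 2, 4, 3, 2, 1, 0, 3, 2, 1, 3, 2, 3, 4, 3, 2, 1, 3, 2, 3],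
  [0, 1, 0, 3, 2, 3, 2, 4, 3, 2, 1, 0, 3, 2, 1, 4, 3, 2, 3, 2, 1, 4, 3, 2, 3, 5, 4],
  [2, 3, 4, 3, 2, 1, 0, 3, 2, 1, 0, 3, 4, 3, 2, 1, 3, 2, 5, 4, 3, 2, 1, 0, 3, 4, 5],
  [0, 3, 2, 1, 4, 3, 2, 5, 4, 3, 2, 1, 3, 2, 4, 3, 2, 5, 4, 3, 2, 1, 0, 3, 2, 1, 3, 4],
  [0, 4, 3, 2, 1, 3, 2, 3, 2, 1, 4, 3, 2, 3, 2, 4, 3, 2, 1, 0, 3, 2, 1, 3, 2, 4, 3, 5],
  [0, 1, 0, 2, 1, 3, 2, 4, 3, 2, 1, 3, 2, 3, 4, 3, 2, 1, 3, 2, 3, 4, 3, 2, 1, 3, 2, 4, 3],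
  [0, 1, 0, 5, 4, 3, 2, 1, 0, 3, 2, 1, 3, 4, 3, 2, 1, 0, 3, 2, 1, 0, 4, 3, 2, 1, 0, 3, 4, 5]]

/-- the element of order 6 -/
def specN : Spec where
  w := wN ++ wN
  p := ⟨5, 5, 1, 4, 6, 1, 1, 0, 3⟩
  pd := ⟨4, 3, 1, 6, 0, 5, 6, 6, 3⟩
  r0 := ⟨1, 6, 6, 0, 1, 4, 0, 6, 4⟩
  r1 := ⟨1, 3, 1, 0, 2, 4, 0, 2, 5⟩
  o := some (wN, ⟨5, 2, 5, 2, 2, 3, 6, 4, 4⟩, ⟨3, 3, 3, 5, 4, 6, 3, 2, 6⟩)
  elts := [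
    ⟨cwWords.getD 0 [], ⟨1, 0, 0, 0, 1, 0, 0, 0, 1⟩, false⟩,
    ⟨cwWords.getD 1 [], ⟨2, 0, 3, 5, 4, 3, 6, 4, 2⟩, false⟩,
    ⟨cwWords.getD 2 [], ⟨5, 6, 1, 4, 0, 1, 5, 3, 4⟩, false⟩,
    ⟨cwWords.getD 3 [], ⟨5, 2, 5, 2, 2, 3, 6, 4, 4⟩, true⟩,
    ⟨cwWords.getD 4 [], ⟨6, 1, 3, 1, 1, 2, 6, 5, 2⟩, true⟩,
    ⟨cwWords.getD 5 [], ⟨5, 6, 4, 6, 6, 0, 4, 0, 6⟩, true⟩,
    ⟨cwWords.getD 6 [], ⟨2, 3, 5, 3, 3, 1, 3, 6, 2⟩, true⟩,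
    ⟨cwWords.getD 7 [], ⟨1, 5, 5, 5, 5, 3, 6, 4, 1⟩, true⟩,
    ⟨cwWords.getD 8 [], ⟨1, 5, 5, 6, 0, 5, 2, 3, 6⟩, false⟩,
    ⟨cwWords.getD 9 [], ⟨3, 3, 2, 1, 5, 2, 2, 0, 6⟩, false⟩,
    ⟨cwWords.getD 10 [], ⟨0, 2, 1, 2, 2, 0, 1, 0, 1⟩, true⟩,
    ⟨cwWords.getD 11 [], ⟨1, 5, 0, 0, 6, 0, 6, 1, 6⟩, false⟩]

theorem specX_data : specX.dataOK = true := by decide +kernel

theorem specX_false : (List.range 7).all (fun u => specX.slice false u) = true := by decide +kernel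

theorem specX_true : (List.range 7).all (fun u => specX.slice true u) = true := by decide +kernel

theorem specX_check : specX.check = true := by
  simp only [Spec.check, List.all_cons, List.all_nil, specX_false, specX_true, Bool.and_self]

theorem specN_data : specN.dataOK = true := by decide +kernel

theorem specN_false : (List.range 7).all (fun u => specN.slice false u) = true := by decide +kernel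

theorem specN_true : (List.range 7).all (fun u => specN.slice true u) = true := by decide +kernel

theorem specN_check : specN.check = true := by
  simp only [Spec.check, List.all_cons, List.all_nil, specN_false, specN_true, Bool.and_self]

end Cfsg.Agent.H59.ONOut
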