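import Cfsg.Agent.H45.OnWModel

/-!
Centralisers in the model of `L₃(7):2` by enumeration over a cyclic vector: an element commuting
with an inner element is determined by a scalar and the image of one vector.
-/

set_option autoImplicit false
set_option maxRecDepth 20000

namespace Cfsg.Agent.H59.ONOut

open Matrix
open Cfsg.Agent.H45.OnWModel

/-- Nine natural numbers as a matrix. -/
structure M9 where
  a : ℕ
  b : ℕ
  c : ℕ
  d : ℕ
  e : ℕ
  f : ℕ
  g : ℕ
  h : ℕ
  i : ℕ

namespace M9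

/-- The matrix. -/
def toMat (m : M9) : Matrix (Fin 3) (Fin 3) (ZMod 7) :=
  !![(m.a : ZMod 7), m.b, m.c; m.d, m.e, m.f; m.g, m.h, m.i]

/-- The product. -/
def mul (x y : M9) : M9 :=
  ⟨(x.a * y.a + x.b * y.d + x.c * y.g) % 7, (x.a * y.b + x.b * y.e + x.c * y.h) % 7,
    (x.a * y.c + x.b * y.f + x.c * y.i) % 7,
    (x.d * y.a + x.e * y.d + x.f * y.g) % 7, (x.d * y.b + x.e * y.e + x.f * y.h) % 7,
    (x.d * y.c + x.e * y.f + x.f * y.i) % 7,
    (x.g * y.a + x.h * y.d + x.i * y.g) % 7, (x.g * y.b + x.h * y.e + x.i * y.h) % 7,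
    (x.g * y.c + x.h * y.f + x.i * y.i) % 7⟩

/-- The scalar multiple. -/
def smul (s : ℕ) (x : M9) : M9 :=
  ⟨s * x.a % 7, s * x.b % 7, s * x.c % 7, s * x.d % 7, s * x.e % 7, s * x.f % 7, s * x.g % 7,
    s * x.h % 7, s * x.i % 7⟩

/-- The sum. -/
def add (x y : M9) : M9 :=
  ⟨(x.a + y.a) % 7, (x.b + y.b) % 7, (x.c + y.c) % 7, (x.d + y.d) % 7, (x.e + y.e) % 7,
    (x.f + y.f) % 7, (x.g + y.g) % 7, (x.h + y.h) % 7, (x.i + y.i) % 7⟩

/-- A column times the given row of a matrix. -/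
def outer0 (u v w : ℕ) (r : M9) : M9 :=
  ⟨u * r.a % 7, u * r.b % 7, u * r.c % 7, v * r.a % 7, v * r.b % 7, v * r.c % 7, w * r.a % 7,
    w * r.b % 7, w * r.c % 7⟩

/-- A column times the second row of a matrix. -/
def outer1 (u v w : ℕ) (r : M9) : M9 :=
  ⟨u * r.d % 7, u * r.e % 7, u * r.f % 7, v * r.d % 7, v * r.e % 7, v * r.f % 7, w * r.d % 7,
    w * r.e % 7, w * r.f % 7⟩

/-- A column times the third row of a matrix. -/
def outer2 (u v w : ℕ) (r : M9) : M9 :=
  ⟨u * r.g % 7, u * r.h % 7, u * r.i % 7, v * r.g % 7, v * r.h % 7, v * r.i % 7, w * r.g % 7,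
    w * r.h % 7, w * r.i % 7⟩

/-- The determinant. -/
def det (x : M9) : ℕ :=
  (x.a * x.e * x.i + x.b * x.f * x.g + x.c * x.d * x.h +
    6 * (x.c * x.e * x.g + x.a * x.f * x.h + x.b * x.d * x.i)) % 7

/-- The cofactor matrix. -/
def cof (x : M9) : M9 :=
  ⟨(x.e * x.i + 6 * (x.f * x.h)) % 7, (x.f * x.g + 6 * (x.d * x.i)) % 7,
    (x.d * x.h + 6 * (x.e * x.g)) % 7,
    (x.c * x.h + 6 * (x.b * x.i)) % 7, (x.a * x.i + 6 * (x.c * x.g)) % 7,
    (x.b * x.g + 6 * (x.a * x.h)) % 7,
    (x.b * x.f + 6 * (x.c * x.e)) % 7, (x.c * x.d + 6 * (x.a * x.f)) % 7,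
    (x.a * x.e + 6 * (x.b * x.d)) % 7⟩

/-- Equality modulo seven. -/
def beq (x y : M9) : Bool :=
  Nat.beq (x.a % 7) (y.a % 7) && Nat.beq (x.b % 7) (y.b % 7) && Nat.beq (x.c % 7) (y.c % 7) &&
    Nat.beq (x.d % 7) (y.d % 7) && Nat.beq (x.e % 7) (y.e % 7) && Nat.beq (x.f % 7) (y.f % 7) &&
    Nat.beq (x.g % 7) (y.g % 7) && Nat.beq (x.h % 7) (y.h % 7) && Nat.beq (x.i % 7) (y.i % 7)

theorem beq_iff (x y : M9) : beq x y = true ↔ toMat x = toMat y := by
  simp only [beq, Bool.and_eq_true, Nat.beq_eq, ← ZMod.natCast_eq_natCast_iff']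
  constructor
  · rintro ⟨⟨⟨⟨⟨⟨⟨⟨h1, h2⟩, h3⟩, h4⟩, h5⟩, h6⟩, h7⟩, h8⟩, h9⟩
    simp only [toMat, h1, h2, h3, h4, h5, h6, h7, h8, h9]
  · intro h
    exact ⟨⟨⟨⟨⟨⟨⟨⟨congrFun (congrFun h 0) 0, congrFun (congrFun h 0) 1⟩, congrFun (congrFun h 0) 2⟩,
      congrFun (congrFun h 1) 0⟩, congrFun (congrFun h 1) 1⟩, congrFun (congrFun h 1) 2⟩,
      congrFun (congrFun h 2) 0⟩, congrFun (congrFun h 2) 1⟩, congrFun (congrFun h 2) 2⟩

theorem toMat_mul (x y : M9) : toMat (mul x y) = toMat x * toMat y := by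
  ext p q
  fin_cases p <;> fin_cases q <;>
    simp [toMat, mul, Matrix.mul_apply, Fin.sum_univ_three, ZMod.natCast_mod]

theorem toMat_smul (s : ℕ) (x : M9) : toMat (smul s x) = (s : ZMod 7) • toMat x := by
  ext p q
  fin_cases p <;> fin_cases q <;> simp [toMat, smul, ZMod.natCast_mod]

theorem toMat_add (x y : M9) : toMat (add x y) = toMat x + toMat y := by
  ext p q
  fin_cases p <;> fin_cases q <;> simp [toMat, add, ZMod.natCast_mod]

theorem six_eq : ((6 : ℕ) : ZMod 7) = -1 := by decide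

theorem det_toMat (x : M9) : (toMat x).det = (det x : ZMod 7) := by
  simp only [det, ZMod.natCast_mod, Nat.cast_add, Nat.cast_mul, six_eq, toMat, Matrix.det_fin_three]
  simp
  ring

theorem cof_mul_transpose (x : M9) :
    toMat (cof x) * (toMat x)ᵀ = (det x : ZMod 7) • (1 : Matrix (Fin 3) (Fin 3) (ZMod 7)) := by
  ext p q
  fin_cases p <;> fin_cases q <;>
    simp [toMat, cof, det, Matrix.mul_apply, Fin.sum_univ_three, Matrix.one_apply, ZMod.natCast_mod,
      six_eq, show (6 : ZMod 7) = -1 by decide] <;> ring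

/-- The matrix with first column `(u, v, w)` and nothing else, times a row matrix. -/
theorem toMat_outer (A : Matrix (Fin 3) (Fin 3) (ZMod 7)) (r : M9) :
    toMat (outer0 (A 0 0).val (A 1 0).val (A 2 0).val r) =
        A * toMat ⟨r.a, r.b, r.c, 0, 0, 0, 0, 0, 0⟩ ∧
      toMat (outer1 (A 0 0).val (A 1 0).val (A 2 0).val r) =
        A * toMat ⟨r.d, r.e, r.f, 0, 0, 0, 0, 0, 0⟩ ∧
      toMat (outer2 (A 0 0).val (A 1 0).val (A 2 0).val r) =
        A * toMat ⟨r.g, r.h, r.i, 0, 0, 0, 0, 0, 0⟩ := by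
  refine ⟨?_, ?_, ?_⟩ <;> ext p q <;> fin_cases p <;> fin_cases q <;>
    simp [toMat, outer0, outer1, outer2, Matrix.mul_apply, Fin.sum_univ_three, ZMod.natCast_mod]

end M9

/-- The scalars of `SL₃(7)`. -/
def cubeRoots : List ℕ := [1, 2, 4]

/-- Equality up to a scalar of `SL₃(7)`. -/
def beqS (x y : M9) : Bool := cubeRoots.any fun s => M9.beq x (M9.smul s y)

/-- Data of a listed element: the word, its matrix and its parity. -/
structure Elt where
  word : List (Fin 6)
  mat : M9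
  odd : Bool

/-- Data of an inner element with an optional outer one. -/
structure Spec where
  w : List (Fin 6)
  p : M9
  pd : M9
  r0 : M9
  r1 : M9
  o : Option (List (Fin 6) × M9 × M9)
  elts : List Elt

namespace Spec

variable (S : Spec)

/-- The matrix to the right of a candidate. -/
def q (b : Bool) : M9 := cond b S.pd S.p

/-- The inverse of the basis of the cyclic vector. -/
def r (b : Bool) : M9 := cond b S.r1 S.r0

/-- The matrices agree with the words, and the rows resolve the identity. -/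
def dataOK : Bool :=
  decide ((evalM S.w).1 = M9.toMat S.p ∧ (evalM S.w).2.1 = M9.toMat S.pd ∧ (evalM S.w).2.2 = false) &&
    [false, true].all (fun b => decide
      ((1 : Matrix (Fin 3) (Fin 3) (ZMod 7)) =
        M9.toMat ⟨(S.r b).a, (S.r b).b, (S.r b).c, 0, 0, 0, 0, 0, 0⟩ +
          (M9.toMat (S.q b) * M9.toMat ⟨(S.r b).d, (S.r b).e, (S.r b).f, 0, 0, 0, 0, 0, 0⟩ +
            M9.toMat (S.q b) * (M9.toMat (S.q b) *
              M9.toMat ⟨(S.r b).g, (S.r b).h, (S.r b).i, 0, 0, 0, 0, 0, 0⟩)))) &&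
    S.elts.all (fun u => decide ((evalM u.word).1 = M9.toMat u.mat ∧ (evalM u.word).2.2 = u.odd)) &&
    (match S.o with
      | none => true
      | some (ow, n, nd) =>
        decide ((evalM ow).1 = M9.toMat n ∧ (evalM ow).2.1 = M9.toMat nd ∧ (evalM ow).2.2 = true))

/-- The candidate with the given first column and scalar. -/
def cand (b : Bool) (l u v w : ℕ) : M9 :=
  M9.add (M9.outer0 u v w (S.r b))
    (M9.add (M9.smul l (M9.mul S.p (M9.outer1 u v w (S.r b))))
      (M9.smul (l * l) (M9.mul S.p (M9.mul S.p (M9.outer2 u v w (S.r b))))))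

/-- The candidate commutes with the outer element. -/
def outerOK (b : Bool) (A : M9) : Bool :=
  match S.o with
  | none => true
  | some (_, n, nd) => beqS (M9.mul A (cond b nd n)) (M9.mul n (M9.cof A))

/-- A candidate fails or is listed. -/
def candOK (b : Bool) (l : ℕ) (A : M9) : Bool :=
  !Nat.beq (M9.det A) 1 || !M9.beq (M9.mul A (S.q b)) (M9.smul l (M9.mul S.p A)) ||
    !S.outerOK b A || S.elts.any (fun u => (u.odd == b) && beqS A u.mat)

/-- All candidates with the given first coordinate. -/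
def slice (b : Bool) (u : ℕ) : Bool :=
  cubeRoots.all fun l => (List.range 7).all fun v => (List.range 7).all fun w =>
    S.candOK b l (S.cand b l u v w)

/-- All candidates. -/
def check : Bool := [false, true].all fun b => (List.range 7).all fun u => S.slice b u

end Spec

theorem mem_roots_of_cube {z : ZMod 7} (h : z ^ 3 = 1) : z.val ∈ cubeRoots :=
  (show ∀ s : ZMod 7, s ^ 3 = 1 → s.val ∈ cubeRoots by decide) z h

theorem coe_tauS {A : S3} {m : M9} (hm : (A : Matrix (Fin 3) (Fin 3) (ZMod 7)) = M9.toMat m) :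
    (tauS A : Matrix (Fin 3) (Fin 3) (ZMod 7)) = M9.toMat (M9.cof m) := by
  have hdet : (M9.det m : ZMod 7) = 1 := by rw [← M9.det_toMat, ← hm]; exact A.2
  have h1 : M9.toMat (M9.cof m) * (M9.toMat m)ᵀ = 1 := by
    rw [M9.cof_mul_transpose, hdet, one_smul]
  have h2 : (tauS A : Matrix (Fin 3) (Fin 3) (ZMod 7)) * (tr A : Matrix (Fin 3) (Fin 3) (ZMod 7)) = 1 := by
    rw [← cmul]
    change (((tr A)⁻¹ * tr A : S3) : Matrix (Fin 3) (Fin 3) (ZMod 7)) = 1
    rw [inv_mul_cancel, cone]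
  rw [tr_coe, hm] at h2
  exact left_inv_eq_right_inv h2 (mul_eq_one_comm.mp h1)

theorem exists_scalar {A B : S3} (h : (QuotientGroup.mk A : P3) = QuotientGroup.mk B) :
    ∃ z : ZMod 7, z ^ 3 = 1 ∧
      (A : Matrix (Fin 3) (Fin 3) (ZMod 7)) = z • (B : Matrix (Fin 3) (Fin 3) (ZMod 7)) := by
  obtain ⟨z, hz, hz'⟩ := Matrix.SpecialLinearGroup.mem_center_iff.mp (QuotientGroup.eq.mp h.symm)
  have hz3 : z ^ 3 = 1 := by simpa using hz
  refine ⟨z, hz3, ?_⟩
  have e : (A : Matrix (Fin 3) (Fin 3) (ZMod 7)) = ((B * (B⁻¹ * A) : S3) : Matrix (Fin 3) (Fin 3) (ZMod 7)) := by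
    rw [mul_inv_cancel_left]
  rw [e, cmul, ← hz']
  ext p q
  simp [Matrix.scalar_apply, Matrix.mul_diagonal, mul_comm]

theorem mk_eq_of_smul {A B : S3} {z : ZMod 7}
    (h : (A : Matrix (Fin 3) (Fin 3) (ZMod 7)) = z • (B : Matrix (Fin 3) (Fin 3) (ZMod 7))) :
    (QuotientGroup.mk A : P3) = QuotientGroup.mk B := by
  refine (QuotientGroup.eq.mpr ?_).symm
  have e : ((B⁻¹ * A : S3) : Matrix (Fin 3) (Fin 3) (ZMod 7)) = z • 1 := by
    rw [cmul, h, Matrix.mul_smul, ← cmul, inv_mul_cancel, cone]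
  rw [Subgroup.mem_center_iff]
  intro C
  apply Subtype.ext
  rw [cmul C, cmul (B⁻¹ * A) C, e]
  simp

theorem beqS_of_smul {x y : M9} {z : ZMod 7} (hz : z ^ 3 = 1) (h : M9.toMat x = z • M9.toMat y) :
    beqS x y = true := by
  refine List.any_eq_true.mpr ⟨z.val, mem_roots_of_cube hz, ?_⟩
  rw [M9.beq_iff, M9.toMat_smul, ZMod.natCast_zmod_val, h]

/-- An element of the model commuting with the inner element, and with the outer one if given, is
the element of a listed word. -/
theorem Spec.sound (S : Spec) (hd : S.dataOK = true) (hc : S.check = true) (y : M2)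
    (hy : y * (S.w.map x).prod = (S.w.map x).prod * y)
    (ho : ∀ ow n nd, S.o = some (ow, n, nd) → y * (ow.map x).prod = (ow.map x).prod * y) :
    ∃ u ∈ S.elts, y = (u.word.map x).prod := by
  simp only [Spec.dataOK, Bool.and_eq_true, decide_eq_true_eq, List.all_eq_true] at hd
  obtain ⟨⟨⟨⟨hp, hpd, hpe⟩, hres⟩, helts⟩, hod⟩ := hd
  obtain ⟨P, hP, hPd, hPw⟩ := evalM_spec S.w
  rw [hpe] at hPw
  simp only [Bool.false_eq_true, if_false, mul_one] at hPw
  rw [hp] at hP
  rw [hpd] at hPd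
  obtain ⟨b, A, hyA⟩ : ∃ (b : Bool) (A : S3),
      y = SemidirectProduct.inl (QuotientGroup.mk A) * (if b then t else 1) := by
    have h2 : ∀ s : Multiplicative (ZMod 2), s = 1 ∨ s = Multiplicative.ofAdd 1 := by decide
    obtain ⟨A, hA⟩ := QuotientGroup.mk_surjective y.left
    have hk := (SemidirectProduct.inl_left_mul_inr_right y).symm
    rcases h2 y.right with hs | hs <;> rw [hs] at hk
    · exact ⟨false, A, by rw [hk, hA, map_one]; rfl⟩
    · exact ⟨true, A, by rw [hk, hA]; rfl⟩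
  have hq : M9.toMat (S.q b) = (cond b (tauS P) P : S3) := by
    cases b <;> simp [Spec.q, hP, hPd]
  -- the inner element
  have hin : (QuotientGroup.mk (A * cond b (tauS P) P) : P3) = QuotientGroup.mk (P * A) := by
    rw [hyA, hPw] at hy
    cases b
    · simp only [Bool.false_eq_true, if_false, mul_one, ← map_mul, ← QuotientGroup.mk_mul] at hy
      exact SemidirectProduct.inl_injective hy
    · simp only [if_true] at hy
      rw [mul_assoc, t_conj, tau_mk, ← mul_assoc, ← mul_assoc, ← map_mul, ← map_mul,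
        ← QuotientGroup.mk_mul, ← QuotientGroup.mk_mul] at hy
      exact SemidirectProduct.inl_injective (mul_right_cancel hy)
  obtain ⟨l, hl, hAQ⟩ := exists_scalar hin
  rw [cmul, cmul, hP, ← hq] at hAQ
  set Am : Matrix (Fin 3) (Fin 3) (ZMod 7) := (A : Matrix (Fin 3) (Fin 3) (ZMod 7)) with hAm
  set m := S.cand b l.val (Am 0 0).val (Am 1 0).val (Am 2 0).val with hm
  have hmA : M9.toMat m = Am := by
    obtain ⟨o0, o1, o2⟩ := M9.toMat_outer Am (S.r b)
    have hr := hres b (by simp)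
    rw [hm, Spec.cand, M9.toMat_add, M9.toMat_add, M9.toMat_smul, M9.toMat_smul, M9.toMat_mul,
      M9.toMat_mul, M9.toMat_mul, o0, o1, o2, Nat.cast_mul, ZMod.natCast_zmod_val]
    conv_rhs => rw [← mul_one Am, hr]
    rw [mul_add, mul_add, ← mul_assoc Am (M9.toMat (S.q b)) _, ← mul_assoc Am (M9.toMat (S.q b)) _, hAQ]
    simp only [Matrix.smul_mul, Matrix.mul_assoc]
    rw [← mul_assoc Am (M9.toMat (S.q b)), hAQ]
    simp only [Matrix.smul_mul, Matrix.mul_smul, Matrix.mul_assoc, smul_smul]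
  have hmem : l.val ∈ cubeRoots := mem_roots_of_cube hl
  have hchk : S.candOK b l.val m = true := by
    have h1 := List.all_eq_true.mp hc b (by cases b <;> simp)
    have h2 := List.all_eq_true.mp h1 (Am 0 0).val (List.mem_range.mpr (ZMod.val_lt _))
    have h3 := List.all_eq_true.mp h2 _ hmem
    have h4 := List.all_eq_true.mp h3 (Am 1 0).val (List.mem_range.mpr (ZMod.val_lt _))
    exact List.all_eq_true.mp h4 (Am 2 0).val (List.mem_range.mpr (ZMod.val_lt _))
  have c1 : Nat.beq (M9.det m) 1 = true := by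
    rw [Nat.beq_eq]
    have h := M9.det_toMat m
    rw [hmA, hAm, A.2] at h
    have hlt : M9.det m < 7 := Nat.mod_lt _ (by norm_num)
    have := congrArg ZMod.val h
    rw [ZMod.val_natCast, Nat.mod_eq_of_lt hlt] at this
    exact this.symm
  have c2 : M9.beq (M9.mul m (S.q b)) (M9.smul l.val (M9.mul S.p m)) = true := by
    rw [M9.beq_iff, M9.toMat_mul, M9.toMat_smul, M9.toMat_mul, hmA, hAQ, ZMod.natCast_zmod_val]
  have c3 : S.outerOK b m = true := by
    rcases hso : S.o with _ | ⟨ow, n, nd⟩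
    · simp [Spec.outerOK, hso]
    · rw [hso] at hod
      obtain ⟨hn, hnd, hne⟩ : (evalM ow).1 = M9.toMat n ∧ (evalM ow).2.1 = M9.toMat nd ∧
          (evalM ow).2.2 = true := by simpa using hod
      obtain ⟨Nn, hN, hNd, hNw⟩ := evalM_spec ow
      rw [hne] at hNw
      simp only [if_true] at hNw
      rw [hn] at hN
      rw [hnd] at hNd
      have h := ho ow n nd hso
      rw [hyA, hNw] at h
      have hout : (QuotientGroup.mk (A * cond b (tauS Nn) Nn) : P3) = QuotientGroup.mk (Nn * tauS A) := by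
        cases b
        · simp only [Bool.false_eq_true, if_false, mul_one] at h
          rw [mul_assoc (SemidirectProduct.inl (QuotientGroup.mk Nn : P3)), t_conj, tau_mk, ← mul_assoc,
            ← mul_assoc, ← map_mul, ← map_mul, ← QuotientGroup.mk_mul, ← QuotientGroup.mk_mul] at h
          exact SemidirectProduct.inl_injective (mul_right_cancel h)
        · simp only [if_true] at h
          rw [mul_assoc (SemidirectProduct.inl (QuotientGroup.mk A : P3)), ← mul_assoc t, t_conj,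
            mul_assoc (SemidirectProduct.inl (QuotientGroup.mk Nn : P3)), ← mul_assoc t, t_conj,
            tau_mk, tau_mk] at h
          simp only [mul_assoc, t_sq, mul_one, ← map_mul, ← QuotientGroup.mk_mul] at h
          exact SemidirectProduct.inl_injective h
      obtain ⟨z, hz, hmz⟩ := exists_scalar hout
      rw [cmul, cmul, hN, coe_tauS hmA.symm] at hmz
      simp only [Spec.outerOK, hso]
      refine beqS_of_smul hz ?_
      rw [M9.toMat_mul, M9.toMat_mul, hmA, ← hmz]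
      cases b <;> simp [hN, hNd, Am]
  simp only [Spec.candOK, c1, c2, c3, Bool.not_true, Bool.false_or, List.any_eq_true,
    Bool.and_eq_true] at hchk
  obtain ⟨u, hu, hub, hum⟩ := hchk
  obtain ⟨U, hU, -, hUw⟩ := evalM_spec u.word
  obtain ⟨hu1, hu2⟩ := helts u hu
  rw [hu2, beq_iff_eq.mp hub] at hUw
  rw [hu1] at hU
  obtain ⟨s, -, hs⟩ := List.any_eq_true.mp hum
  rw [M9.beq_iff, M9.toMat_smul, hmA, ← hU] at hs
  refine ⟨u, hu, ?_⟩
  rw [hyA, hUw, mk_eq_of_smul hs]

end Cfsg.Agent.H59.ONOut
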