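import Cfsg.Agent.H59.ONOut.FixDef

/-!
Generated: the scan for fixed cosets.
-/

set_option autoImplicit false
set_option maxRecDepth 100000
set_option Elab.async false

namespace Cfsg.Agent.H59.ONOut

theorem frange_46080 : FRange 46080 49920 :=
  scanC_sound (m := 3840) (by decide +kernel) rfl

theorem frange_49920 : FRange 49920 53760 :=
  scanC_sound (m := 3840) (by decide +kernel) rfl

theorem frange_53760 : FRange 53760 57600 :=
  scanC_sound (m := 3840) (by decide +kernel) rfl

theorem frange_57600 : FRange 57600 61440 :=
  scanC_sound (m := 3840) (by decide +kernel) rfl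

end Cfsg.Agent.H59.ONOut
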