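import Cfsg.Agent.H59.ONOut.FixDef

/-!
Generated: the scan for fixed cosets.
-/

set_option autoImplicit false
set_option maxRecDepth 100000
set_option Elab.async false

namespace Cfsg.Agent.H59.ONOut

theorem frange_107520 : FRange 107520 111360 :=
  scanC_sound (m := 3840) (by decide +kernel) rfl

theorem frange_111360 : FRange 111360 115200 :=
  scanC_sound (m := 3840) (by decide +kernel) rfl

theorem frange_115200 : FRange 115200 119040 :=
  scanC_sound (m := 3840) (by decide +kernel) rfl

theorem frange_119040 : FRange 119040 122760 :=
  scanC_sound (m := 3720) (by decide +kernel) rfl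

end Cfsg.Agent.H59.ONOut
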