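import Cfsg.Agent.H59.ONOut.FixCheck0
import Cfsg.Agent.H59.ONOut.FixCheck1
import Cfsg.Agent.H59.ONOut.FixCheck2
import Cfsg.Agent.H59.ONOut.FixCheck3
import Cfsg.Agent.H59.ONOut.FixCheck4
import Cfsg.Agent.H59.ONOut.FixCheck5
import Cfsg.Agent.H59.ONOut.FixCheck6
import Cfsg.Agent.H59.ONOut.FixCheck7

/-!
Generated: every coset is checked.
-/

set_option autoImplicit false

namespace Cfsg.Agent.H59.ONOut

theorem fix_all : FRange 0 122760 :=
  frange_0
    |>.append frange_3840
    |>.append frange_7680
    |>.append frange_11520
    |>.append frange_15360
    |>.append frange_19200
    |>.append frange_23040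
    |>.append frange_26880
    |>.append frange_30720
    |>.append frange_34560
    |>.append frange_38400
    |>.append frange_42240
    |>.append frange_46080
    |>.append frange_49920
    |>.append frange_53760
    |>.append frange_57600
    |>.append frange_61440
    |>.append frange_65280
    |>.append frange_69120
    |>.append frange_72960
    |>.append frange_76800
    |>.append frange_80640
    |>.append frange_84480
    |>.append frange_88320
    |>.append frange_92160
    |>.append frange_96000
    |>.append frange_99840
    |>.append frange_103680
    |>.append frange_107520
    |>.append frange_111360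
    |>.append frange_115200
    |>.append frange_119040

end Cfsg.Agent.H59.ONOut
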