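import Cfsg.Agent.H59.ONOut.OutData

/-!
Words for the automorphisms of the O'Nan group.
-/

set_option autoImplicit false
set_option Elab.async false
set_option maxRecDepth 100000

namespace Cfsg.Agent.H59.ONOut

/-- position of a named letter -/
def pX : Nat := 8

/-- position of a named letter -/
def pXi : Nat := 9

/-- position of a named letter -/
def pN : Nat := 10

/-- position of a named letter -/
def pNi : Nat := 11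

/-- position of a named letter -/
def pY : Nat := 12

/-- position of a named letter -/
def pYi : Nat := 13

/-- position of a named letter -/
def pZ : Nat := 14

/-- position of a named letter -/
def pZi : Nat := 15

/-- the expressions of the generators -/
def posA : List Nat := [30, 31, 32, 33, 34, 35, 36, 37]

/-- their images -/
def posP : List Nat := [52, 53, 54, 55, 56, 57, 58, 59]

/-- positions of the centraliser words -/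
def posU : List Nat := [60, 61, 62, 63, 64, 65, 66, 67, 68, 69, 70, 71]

/-- centralising elements outside the subgroup -/
def posC : List Nat := [74, 78, 82, 88, 96]

/-- representatives of the other fixed cosets, with inverses -/
def posR : List (Nat × Nat) := [(72, 73), (76, 77), (80, 81), (84, 85), (86, 87), (90, 91), (92, 93), (94, 95)]

/-- conjugates of the element of order six into the subgroup, with parity -/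
def wNq : List (List Nat × Bool) := [
  ([2, 4, 3, 2, 1, 5, 4, 3, 2, 1, 0, 3, 2, 1, 4, 3, 2, 1, 0], true),
  ([0, 4, 3, 5, 4, 3, 2, 1, 3, 2, 1, 0, 4, 3, 2, 1, 5, 4, 3, 2, 3, 2, 1, 0, 4, 3, 2, 3, 4], true),
  ([0, 1, 3, 2, 1, 4, 5, 4, 3, 2, 1, 3, 2, 4, 3, 2, 1, 0, 5, 4, 3, 2, 1, 0, 3, 2, 3, 4, 3, 2, 1], true),
  ([0, 1, 0, 4, 3, 2, 1, 0, 5, 4, 3, 2, 1, 3, 2, 3, 4, 3, 2, 1, 3, 2, 3, 4, 3, 2], false),
  ([0, 1, 2, 1, 0, 3, 2, 1, 3, 4, 3, 2, 1, 0, 3, 2, 1, 3, 4, 3, 2, 3, 2, 1, 0, 4, 3], true),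
  ([1, 2, 1, 3, 4, 3, 2, 1, 3, 2, 3, 5, 4, 3, 2, 1, 0, 3, 2, 1, 3, 4, 3, 2, 1, 0, 3, 5], false),
  ([0, 3, 2, 1, 0, 3, 2, 3, 4, 3, 2, 1, 3, 2, 1, 3, 2, 1, 0, 4], false),
  ([2, 3, 4, 3, 2, 1, 3, 2, 1, 4, 3, 2, 1, 3, 2, 4, 3, 2, 1, 0, 5, 4, 3, 2, 1, 3, 2, 3, 2], true)]

/-- identities -/
def idGen : List (List Nat × Nat) := [
  ([30, 0], 4),
  ([31, 1], 1),
  ([32, 2], 2),
  ([33, 3], 2),
  ([34, 4], 1),
  ([35, 5], 2),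
  ([36, 7], 2),
  ([37, 6], 2)]

/-- identities -/
def idInv : List (List Nat × Nat) := [
  ([8, 9], 1),
  ([10, 11], 1),
  ([12, 13], 1),
  ([14, 15], 1),
  ([74, 75], 1),
  ([78, 79], 1),
  ([82, 83], 1),
  ([88, 89], 1),
  ([96, 97], 1),
  ([72, 73], 1),
  ([76, 77], 1),
  ([80, 81], 1),
  ([84, 85], 1),
  ([86, 87], 1),
  ([90, 91], 1),
  ([92, 93], 1),
  ([94, 95], 1)]

/-- identities -/
def idNq : List (List Nat × Nat) := [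
  ([72, 10, 73, 0, 1, 2, 3, 4, 1, 2, 3, 0, 1, 2, 3, 4, 5, 1, 2, 3, 4, 2], 4),
  ([76, 10, 77, 4, 3, 2, 3, 4, 0, 1, 2, 3, 2, 3, 4, 5, 1, 2, 3, 4, 0, 1, 2, 3, 1, 2, 3, 4, 5, 3, 4, 0], 4),
  ([80, 10, 81, 1, 2, 3, 4, 3, 2, 3, 0, 1, 2, 3, 4, 5, 0, 1, 2, 3, 4, 2, 3, 1, 2, 3, 4, 5, 4, 1, 2, 3, 1, 0], 2),
  ([84, 10, 85, 2, 3, 4, 3, 2, 3, 1, 2, 3, 4, 3, 2, 3, 1, 2, 3, 4, 5, 0, 1, 2, 3, 4, 0, 1, 0], 4),
  ([86, 10, 87, 3, 4, 0, 1, 2, 3, 2, 3, 4, 3, 1, 2, 3, 0, 1, 2, 3, 4, 3, 1, 2, 3, 0, 1, 2, 1, 0], 2),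
  ([90, 10, 91, 5, 3, 0, 1, 2, 3, 4, 3, 1, 2, 3, 0, 1, 2, 3, 4, 5, 3, 2, 3, 1, 2, 3, 4, 3, 1, 2, 1], 1),
  ([92, 10, 93, 4, 0, 1, 2, 3, 1, 2, 3, 1, 2, 3, 4, 3, 2, 3, 0, 1, 2, 3, 0], 2),
  ([94, 10, 95, 2, 3, 2, 3, 1, 2, 3, 4, 5, 0, 1, 2, 3, 4, 2, 3, 1, 2, 3, 4, 1, 2, 3, 1, 2, 3, 4, 3, 2], 1)]

/-- identities -/
def idCC : List (List Nat × Nat) := [
  ([74, 10, 75, 11], 4),
  ([78, 10, 79, 11], 4),
  ([82, 10, 83, 11], 2),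
  ([88, 10, 89, 11], 2),
  ([96, 10, 97, 11], 1)]

/-- identities -/
def idY : List (List Nat × Nat) := [
  ([12, 10, 13, 11], 1),
  ([8, 12, 8, 12, 8, 12, 8, 12, 8, 12, 8, 12, 8, 12, 8, 12, 8, 12, 8, 12, 8, 12], 1)]

/-- identities -/
def idThA : List (List Nat × Nat) := [
  ([52, 52], 4),
  ([53, 53], 1),
  ([54, 54], 4),
  ([55, 55], 4),
  ([56, 56], 2),
  ([57, 57], 4),
  ([58, 59], 2),
  ([52, 53, 52, 53, 52, 53], 1),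
  ([53, 54, 53, 54, 53, 54], 1),
  ([54, 55, 54, 55, 54, 55, 54, 55, 54, 55, 54, 55, 54, 55, 54, 55], 2),
  ([55, 56, 55, 56, 55, 56], 1),
  ([56, 57, 56, 57, 56, 57], 1),
  ([52, 54, 52, 54], 2),
  ([52, 55, 52, 55], 2),
  ([52, 56, 52, 56], 1),
  ([52, 57, 52, 57], 2),
  ([53, 55, 53, 55], 4),
  ([53, 56, 53, 56], 2),
  ([53, 57, 53, 57], 4),
  ([54, 56, 54, 56], 1),
  ([54, 57, 54, 57], 2),
  ([55, 57, 55, 57], 2)]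

/-- identities -/
def idThB : List (List Nat × Nat) := [
  ([52, 57, 59, 59], 2),
  ([52, 57, 55, 54, 55, 54, 55, 54, 55, 54], 2),
  ([54, 59, 55, 59, 55, 54, 55, 58, 55, 58], 4),
  ([55, 59, 54, 59, 54, 55, 54, 58, 54, 58], 4),
  ([53, 54, 55, 58, 53, 54, 55, 58, 53, 54, 55, 58, 53, 54, 55, 58, 53, 54, 55, 58], 1),
  ([58, 53, 54, 58, 54, 53, 58, 53, 54, 58, 54], 1),
  ([58, 56, 55, 58, 55, 56, 58, 56, 55, 58, 55], 1)]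

/-- identities -/
def idThC : List (List Nat × Nat) := [
  ([52, 53, 54, 55, 56, 57, 9], 1),
  ([53, 55, 54, 55, 54, 53, 56, 55, 54, 53, 55, 54, 57, 56, 55, 54, 53, 55, 54, 56, 55, 54, 55, 11], 4),
  ([52, 54, 55, 54, 55, 56, 55, 54, 53, 55, 54, 53, 56, 55, 54, 53, 55, 54, 56, 55, 54, 57, 56, 55, 54, 53, 52, 58, 53, 52, 54, 53, 55, 54, 56, 55, 54, 55, 56, 58, 53, 58, 15], 1)]

/-- classified products -/
def cls0 : List (List Nat × Nat × Nat) := [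
  ([60], 1, 1),
  ([61], 0, 0),
  ([62], 0, 0),
  ([63], 0, 0),
  ([64], 0, 0),
  ([65], 1, 1),
  ([66], 0, 0),
  ([67], 0, 0),
  ([68], 0, 0),
  ([69], 0, 0),
  ([70], 1, 1),
  ([71], 1, 1),
  ([60, 74], 0, 0),
  ([60, 78], 0, 0),
  ([60, 82], 0, 0),
  ([60, 88], 0, 0),
  ([60, 96], 0, 0),
  ([61, 74], 0, 0),
  ([61, 78], 0, 0),
  ([61, 82], 0, 0),
  ([61, 88], 0, 0),
  ([61, 96], 0, 0),
  ([62, 74], 0, 0),
  ([62, 78], 0, 0)]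

/-- classified products -/
def cls1 : List (List Nat × Nat × Nat) := [
  ([62, 82], 0, 0),
  ([62, 88], 0, 0),
  ([62, 96], 1, 4),
  ([63, 74], 0, 0),
  ([63, 78], 0, 0),
  ([63, 82], 0, 0),
  ([63, 88], 0, 0),
  ([63, 96], 2, 1),
  ([64, 74], 0, 0),
  ([64, 78], 0, 0),
  ([64, 82], 0, 0),
  ([64, 88], 0, 0),
  ([64, 96], 0, 0),
  ([65, 74], 0, 0),
  ([65, 78], 0, 0),
  ([65, 82], 0, 0),
  ([65, 88], 0, 0),
  ([65, 96], 0, 0),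
  ([66, 74], 0, 0),
  ([66, 78], 0, 0),
  ([66, 82], 0, 0),
  ([66, 88], 0, 0),
  ([66, 96], 1, 4),
  ([67, 74], 0, 0)]

/-- classified products -/
def cls2 : List (List Nat × Nat × Nat) := [
  ([67, 78], 0, 0),
  ([67, 82], 0, 0),
  ([67, 88], 0, 0),
  ([67, 96], 0, 0),
  ([68, 74], 0, 0),
  ([68, 78], 0, 0),
  ([68, 82], 0, 0),
  ([68, 88], 0, 0),
  ([68, 96], 3, 1),
  ([69, 74], 0, 0),
  ([69, 78], 0, 0),
  ([69, 82], 0, 0),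
  ([69, 88], 0, 0),
  ([69, 96], 0, 0),
  ([70, 74], 0, 0),
  ([70, 78], 0, 0),
  ([70, 82], 0, 0),
  ([70, 88], 0, 0),
  ([70, 96], 0, 0),
  ([71, 74], 0, 0),
  ([71, 78], 0, 0),
  ([71, 82], 0, 0),
  ([71, 88], 0, 0),
  ([71, 96], 0, 0)]

/-- non-identities -/
def noK : List (List Nat) := [
  [8, 8, 12, 8, 8, 12, 8, 8, 12, 8, 8, 12, 8, 8, 12, 8, 8, 12, 8, 8, 12, 8, 8, 12, 8, 8, 12, 8, 8, 12, 8, 8, 12],
  [8, 8, 14, 8, 8, 14, 8, 8, 14, 8, 8, 14, 8, 8, 14, 8, 8, 14, 8, 8, 14, 8, 8, 14, 8, 8, 14, 8, 8, 14, 8, 8, 14],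
  [8, 8, 8, 8, 12, 8, 8, 8, 8, 12, 8, 8, 8, 8, 12, 8, 8, 8, 8, 12, 8, 8, 8, 8, 12, 8, 8, 8, 8, 12, 8, 8, 8, 8, 12, 8, 8, 8, 8, 12, 8, 8, 8, 8, 12, 8, 8, 8, 8, 12, 8, 8, 8, 8, 12],
  [8, 8, 8, 8, 14, 8, 8, 8, 8, 14, 8, 8, 8, 8, 14, 8, 8, 8, 8, 14, 8, 8, 8, 8, 14, 8, 8, 8, 8, 14, 8, 8, 8, 8, 14, 8, 8, 8, 8, 14, 8, 8, 8, 8, 14, 8, 8, 8, 8, 14, 8, 8, 8, 8, 14]]

end Cfsg.Agent.H59.ONOut
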