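import Cfsg.Agent.H83.ONUpper.Data.TabAll
import Cfsg.Agent.H59.ONOut.OutWords

/-!
Kernel scan of the coset table of `⟨a, …, f⟩` in the presented O'Nan group for the fixed cosets of
two elements.
-/

set_option autoImplicit false

namespace Cfsg.Agent.H59.ONOut

open Cfsg.Agent.H83.ONUpper (rowT rT tgt8 tab)
open Cfsg.Agent.H25.Fi23 (andB andB_eq ifB ifB_eq)
open Cfsg.Agent.H45 (force force_eq)

/-- A letter of the programme as a letter of the table. -/
def l8 (l : ℕ) : ℕ := if l < 6 then l + 2 else l - 6

/-- The element of order 19 as a word in the letters of the table. -/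
def tX : List ℕ := [2, 3, 4, 5, 6, 7]

/-- The element of order 6 as a word in the letters of the table. -/
def tN : List ℕ := [3, 5, 4, 5, 4, 3, 6, 5, 4, 3, 5, 4, 7, 6, 5, 4, 3, 5, 4, 6, 5, 4, 5]

/-- Follow a word in the table. -/
noncomputable def walkC (w : List ℕ) : ℕ → (ℕ → Bool) → Bool :=
  List.rec (fun i k => k i)
    (fun l _ ih i k => force (rT (rowT tab i) l) fun j => ih j k) w

/-- Follow a word in the table. -/
noncomputable def walkN (w : List ℕ) (i : ℕ) : ℕ := w.foldl (fun i l => tgt8 tab i l) i

/-- The coset is that of a representative. -/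
noncomputable def isRepC (i : ℕ) : Bool :=
  posR.any fun r => walkC ((outD.getD (r.1 - 8) []).map l8) 0 fun k => Nat.beq k i

/-- Only the coset `0` and those of the representatives are fixed. -/
noncomputable def fixOK (i : ℕ) : Bool :=
  ifB (Nat.beq i 0) true
    (andB (walkC tX i fun j => ifB (Nat.beq j i) false true)
      (walkC tN i fun j => ifB (Nat.beq j i) (isRepC i) true))

/-- Check `m` consecutive cosets from `a`. -/
noncomputable def scanC : ℕ → ℕ → Bool :=
  Nat.rec (fun _ => true)
    (fun _ ih a => andB (fixOK a) (force (Nat.succ a) fun a' => ih a'))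

/-- All cosets of an interval are checked. -/
def FRange (a b : ℕ) : Prop := ∀ i, a ≤ i → i < b → fixOK i = true

theorem FRange.append {a b c : ℕ} (h1 : FRange a b) (h2 : FRange b c) : FRange a c :=
  fun i ha hc => (Nat.lt_or_ge i b).elim (h1 i ha) fun h => h2 i h hc

theorem scanC_sound : ∀ {m a b : ℕ}, scanC m a = true → a + m = b → FRange a b := by
  intro m
  induction m with
  | zero => intro a b _ hb i h1 h2; omega
  | succ m ih =>
    intro a b h hb i h1 h2
    have hd : scanC (m + 1) a = andB (fixOK a) (force (Nat.succ a) fun a' => scanC m a') := rfl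
    simp only [hd, andB_eq, force_eq, Bool.and_eq_true] at h
    rcases Nat.lt_or_ge a i with h3 | h3
    · exact ih h.2 (by omega) i h3 h2
    · obtain rfl : i = a := by omega
      exact h.1

theorem walkC_eq : ∀ (w : List ℕ) (i : ℕ) (k : ℕ → Bool), walkC w i k = k (walkN w i)
  | [], i, k => rfl
  | l :: w, i, k => by
    have hd : walkC (l :: w) i k = force (rT (rowT tab i) l) fun j => walkC w j k := rfl
    rw [hd, force_eq, walkC_eq w]
    rfl

end Cfsg.Agent.H59.ONOut
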