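import Cfsg.Agent.H59.ONOut.Setup
import Cfsg.Prelude.Def_KGroupFacts
import Mathlib.GroupTheory.Sylow

/-!
The outer automorphism group of the presented O'Nan group has order 2, given that the group is
simple of order 460815505920 and two fixed-point facts on the cosets of `⟨a, …, f⟩`.
-/

set_option autoImplicit false
set_option maxRecDepth 100000

namespace Cfsg.Agent.H59.ONOut

open Cfsg.Spor
open Cfsg.Agent.H45
open Cfsg.Agent.H59.ONMult (letterFun invl)

/-- What is assumed: simplicity, the order, and the fixed cosets of the two chosen elements. -/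
structure Facts : Prop where
  simple : IsSimpleGroup ON
  card : Nat.card ON = 460815505920
  fixX : ∀ g : ON, g * gX * g⁻¹ ∈ W → g ∈ W
  fixN : ∀ g : ON, g * gN * g⁻¹ ∈ W → g ∈ W ∨ ∃ r ∈ posR, g * (v r.1)⁻¹ ∈ W

theorem eval_cons (l : ℕ) (w : List ℕ) : eval outD (l :: w) = v l * eval outD w := by simp [eval]

theorem eval_nil : eval outD [] = 1 := rfl

theorem eval_replicate (n l : ℕ) : eval outD (List.replicate n l) = v l ^ n := by
  simp [eval]

theorem nq_data : ∀ k < 8, ((([(posR.getD k (0, 0)).1, (posR.getD k (0, 0)).2] : List ℕ), 1) ∈ idInv) ∧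
    ((idNq.getD k ([], 0)) ∈ idNq ∧ (idNq.getD k ([], 0)).1 =
      [(posR.getD k (0, 0)).1, pN, (posR.getD k (0, 0)).2] ++
        (wNq.getD k ([], true)).1.reverse.map invl) ∧
    ∀ l ∈ (wNq.getD k ([], true)).1, l < 6 := by decide +kernel

theorem nq_par : ∀ k < 8, (OnWModel.evalM ((wNq.getD k ([], true)).1.map (Fin.ofNat 6))).2.2 =
    (OnWModel.evalM wN).2.2 → ∃ c ∈ posC, ((outD.getD (c - 8) []).getLast? =
      some (posR.getD k (0, 0)).1 ∧ ∀ l ∈ (outD.getD (c - 8) []).dropLast, l < 6) := by decide +kernel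

section
variable (hF : Facts)
include hF

theorem gX_pow : gX ^ 19 = 1 := by
  have h := id_one hF.simple basicId_ok (List.replicate 19 pX, 1) (by simp)
  rwa [eval_replicate] at h

theorem gX_ne : gX ≠ 1 := by
  have h := eval_ne_one out_ok (List.all_eq_true.mp basicNo_ok [pX] (by simp))
  simpa [eval] using h

theorem orderOf_gX : orderOf gX = 19 := by
  have := Fact.mk (show Nat.Prime 19 by norm_num)
  exact orderOf_eq_prime (gX_pow hF) (gX_ne hF)

theorem gN_conj : gN⁻¹ * gX * gN = gX ^ 12 := by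
  have h := id_one hF.simple basicId_ok ([pNi, pX, pN] ++ List.replicate 12 pXi, 1) (by simp)
  rw [eval_append, eval_replicate, eval_cons, eval_cons, eval_cons, eval_nil, mul_one,
    vXi hF.simple, vNi hF.simple, inv_pow, mul_inv_eq_one, ← mul_assoc] at h
  exact h

theorem gY_comm : Commute gY gN := by
  have h := id_one hF.simple idY_ok ([pY, pN, pYi, pNi], 1) (by decide)
  rw [eval_cons, eval_cons, eval_cons, eval_cons, eval_nil, mul_one, vNi hF.simple,
    idInv_one hF.simple (a := pY) (b := pYi) (c := 1) (by decide)] at h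
  have h' : gY * gN * gY⁻¹ * gN⁻¹ = 1 := by simpa [mul_assoc] using h
  exact mul_inv_eq_iff_eq_mul.1 (mul_inv_eq_one.1 h')

theorem gY_four : gY ^ 4 = 1 := by
  have h := id_one hF.simple basicId_ok ([pY, pY, pY, pY], 2) (by simp)
  simpa [eval, pow_succ, mul_assoc] using h

theorem gY_two : gY * gY ≠ 1 := by
  have h := eval_ne_one out_ok (List.all_eq_true.mp basicNo_ok [pY, pY] (by simp))
  simpa [eval] using h

theorem gY_ne_gZ : gY ≠ gZ := by
  have h := eval_ne_one out_ok noY_ok
  intro he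
  refine h ?_
  rw [eval_cons, eval_cons, eval_nil, mul_one,
    idInv_one hF.simple (a := pZ) (b := pZi) (c := 1) (by decide)]
  exact mul_inv_eq_one.2 he

theorem rel_eleven : (gX * gY) ^ 11 = 1 := by
  have h := id_one hF.simple idY_ok ([pX, pY, pX, pY, pX, pY, pX, pY, pX, pY, pX, pY, pX, pY, pX, pY,
    pX, pY, pX, pY, pX, pY], 1) (by decide)
  simpa [eval, pow_succ, mul_assoc] using h

theorem cent_gX {g : ON} (h : Commute g gX) : ∃ i < 19, g = gX ^ i := by
  have hg : g ∈ W := hF.fixX g (by rw [h.eq, mul_inv_cancel_right]; exact gX_mem)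
  obtain ⟨u, hu, rfl⟩ := cent_sound specX specX_data specX_check hg
    (by rw [show specX.w = wX from rfl, ← gX_eq]; exact h.eq) (fun _ _ _ h => absurd h (by simp [specX]))
  obtain ⟨i, hi, hw⟩ : ∃ i < 19, u.word = (List.replicate i wX).flatten := by
    have hlist : specX.elts.map Elt.word =
        (List.range 19).map fun i => (List.replicate i wX).flatten := by decide +kernel
    have hm : u.word ∈ specX.elts.map Elt.word := List.mem_map_of_mem hu
    rw [hlist, List.mem_map] at hm
    obtain ⟨i, hi, hw⟩ := hm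
    exact ⟨i, List.mem_range.1 hi, hw.symm⟩
  refine ⟨i, hi, ?_⟩
  rw [hw, gX_eq]
  clear hw hi
  induction i with
  | zero => simp [wImg]
  | succ i ih =>
    rw [List.replicate_succ, List.flatten_cons, pow_succ', ← ih]
    simp [wImg]

theorem eq_one_of_commute {g : ON} (hx : Commute g gX) (hn : Commute g gN) : g = 1 := by
  obtain ⟨i, -, rfl⟩ := cent_gX hF hx
  have h : gX ^ (12 * i) = gX ^ i := by
    rw [pow_mul, ← gN_conj hF]
    have := (conj_pow (a := gN⁻¹) (b := gX) (i := i))
    rw [inv_inv] at this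
    rw [this, mul_assoc, hn.eq, inv_mul_cancel_left]
  have h11 : gX ^ (11 * i) = 1 := by
    rwa [show 12 * i = 11 * i + i by ring, pow_add, mul_eq_right] at h
  have hdvd : 19 ∣ 11 * i := orderOf_gX hF ▸ orderOf_dvd_of_pow_eq_one h11
  obtain ⟨m, rfl⟩ : 19 ∣ i := (Nat.Prime.dvd_mul (by norm_num)).1 hdvd |>.resolve_left (by norm_num)
  rw [pow_mul, gX_pow hF, one_pow]

/-- The candidates for the image of the element of order four. -/
theorem cent_gN {g : ON} (h : Commute g gN) :
    ∃ p ∈ cls0 ++ cls1 ++ cls2, g = eval outD p.1 := by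
  have hlists : ∀ i < 12, ([posU.getD i 0] ∈ (cls0 ++ cls1 ++ cls2).map Prod.fst) ∧
      ∀ c ∈ posC, [posU.getD i 0, c] ∈ (cls0 ++ cls1 ++ cls2).map Prod.fst := by decide +kernel
  have hU : ∀ i < 12, v (posU.getD i 0) = wImg (cwWords.getD i []) := by
    intro i hi
    have e : posU.getD i 0 = 8 + (52 + i) ∧
        outD.getD (52 + i) [] = (cwWords.getD i []).map Fin.val := by
      revert hi; revert i; decide +kernel
    rw [e.1, v_word (52 + i) (by omega) _ e.2]
  have inW : ∀ {k : ON}, k ∈ W → Commute k gN → ∃ i < 12, k = v (posU.getD i 0) := by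
    intro k hk hc
    have hc2 : Commute k (gN * gN) := hc.mul_right hc
    obtain ⟨u, hu, rfl⟩ := cent_sound specN specN_data specN_check hk
      (by
        rw [show specN.w = wN ++ wN from rfl, show wImg (wN ++ wN) = gN * gN by
          rw [gN_eq]; simp [wImg]]
        exact hc2.eq)
      (fun ow n nd h => by
        obtain rfl : ow = wN := by
          simp only [specN, Option.some.injEq, Prod.mk.injEq] at h
          exact h.1.symm
        rw [← gN_eq]; exact hc.eq)
    have hlist : specN.elts.map Elt.word = (List.range 12).map fun i => cwWords.getD i [] := by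
      decide +kernel
    have hm : u.word ∈ specN.elts.map Elt.word := List.mem_map_of_mem hu
    rw [hlist, List.mem_map] at hm
    obtain ⟨i, hi, hw⟩ := hm
    exact ⟨i, List.mem_range.1 hi, by rw [hU i (List.mem_range.1 hi), hw]⟩
  have fin : ∀ w : List ℕ, w ∈ (cls0 ++ cls1 ++ cls2).map Prod.fst → g = eval outD w →
      ∃ p ∈ cls0 ++ cls1 ++ cls2, g = eval outD p.1 := by
    intro w hw he
    obtain ⟨p, hp, rfl⟩ := List.mem_map.1 hw
    exact ⟨p, hp, he⟩
  rcases hF.fixN g (by rw [h.eq, mul_inv_cancel_right]; exact gN_mem) with hg | ⟨r, hr, hg⟩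
  · obtain ⟨i, hi, he⟩ := inW hg h
    exact fin _ (hlists i hi).1 (by rw [he, eval_cons, eval_nil, mul_one])
  obtain ⟨k, hk, rfl⟩ : ∃ k < 8, r = posR.getD k (0, 0) := by
    obtain ⟨k, hk, rfl⟩ := List.getElem_of_mem hr
    exact ⟨k, hk, (List.getD_eq_getElem _ _ hk).symm⟩
  set R := v (posR.getD k (0, 0)).1 with hR
  obtain ⟨hRi, hmem, hlt⟩ : v (posR.getD k (0, 0)).2 = R⁻¹ ∧
      ((idNq.getD k ([], 0)) ∈ idNq ∧ (idNq.getD k ([], 0)).1 =
        [(posR.getD k (0, 0)).1, pN, (posR.getD k (0, 0)).2] ++ (wNq.getD k ([], true)).1.reverse.map invl) ∧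
      ∀ l ∈ (wNq.getD k ([], true)).1, l < 6 := by
    have e := nq_data k hk
    exact ⟨idInv_one hF.simple e.1, e.2⟩
  have hconj : R * gN * R⁻¹ = wImg ((wNq.getD k ([], true)).1.map (Fin.ofNat 6)) := by
    have h1 := id_one hF.simple idNq_ok _ hmem.1
    rw [hmem.2, eval_append, eval_inv_word _ (fun l hl => by have := hlt l hl; omega), mul_inv_eq_one,
      eval_cons, eval_cons, eval_cons, eval_nil, mul_one, hRi, ← mul_assoc] at h1
    rw [h1, W_fin hlt]
  set q := g * R⁻¹ with hq
  have hqc : q * wImg ((wNq.getD k ([], true)).1.map (Fin.ofNat 6)) = wImg wN * q := by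
    rw [← hconj, ← gN_eq, hq]
    calc g * R⁻¹ * (R * gN * R⁻¹) = g * gN * R⁻¹ := by group
      _ = gN * (g * R⁻¹) := by rw [h.eq, mul_assoc]
  have hpar := parity_eq hg _ _ hqc
  obtain ⟨c, hcm, hlast, hwd⟩ : ∃ c ∈ posC, ((outD.getD (c - 8) []).getLast? =
      some (posR.getD k (0, 0)).1 ∧ ∀ l ∈ (outD.getD (c - 8) []).dropLast, l < 6) := by
    exact nq_par k hk hpar
  obtain ⟨hc8, hc90, hcc⟩ : 8 ≤ c ∧ c - 8 < 90 ∧ ∃ p ∈ idCC, p.1 = [c, pN, c + 1, pNi] ∧
      ([c, c + 1], 1) ∈ idInv := by
    revert hcm; clear hlast hwd; revert c; decide +kernel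
  obtain ⟨pc, hpc, hpce, hci⟩ := hcc
  have hcN : Commute (v c) gN := by
    have h1 := id_one hF.simple idCC_ok pc hpc
    rw [hpce, eval_cons, eval_cons, eval_cons, eval_cons, eval_nil, mul_one, vNi hF.simple,
      idInv_one hF.simple hci] at h1
    have h' : v c * gN * (v c)⁻¹ * gN⁻¹ = 1 := by simpa [mul_assoc] using h1
    exact mul_inv_eq_iff_eq_mul.1 (mul_inv_eq_one.1 h')
  have hcval : v c = eval outD (outD.getD (c - 8) []).dropLast * R := by
    conv_lhs => rw [show c = 8 + (c - 8) by omega, v_def _ hc90,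
      ← List.dropLast_append_getLast? _ hlast, eval_append]
    rw [eval_cons, eval_nil, mul_one]
  have hk' : g * (v c)⁻¹ ∈ W := by
    rw [hcval, mul_inv_rev, ← mul_assoc]
    refine mul_mem hg (inv_mem ?_)
    rw [W_fin hwd]; exact wImg_mem _
  obtain ⟨i, hi, he⟩ := inW hk' (h.mul_left hcN.inv_left)
  refine fin _ ((hlists i hi).2 c hcm) ?_
  rw [eval_cons, eval_cons, eval_nil, mul_one, ← he, inv_mul_cancel_right]

theorem image_gY {y : ON} (hc : Commute y gN) (h4 : y ^ 4 = 1) (h2 : y * y ≠ 1) : y = gY ∨ y = gZ := by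
  obtain ⟨p, hp, rfl⟩ := cent_gN hF hc
  have hok : clsOK p = true := by
    rcases List.mem_append.1 hp with hp | hp
    · rcases List.mem_append.1 hp with hp | hp
      · exact List.all_eq_true.mp cls0_ok p hp
      · exact List.all_eq_true.mp cls1_ok p hp
    · exact List.all_eq_true.mp cls2_ok p hp
  unfold clsOK at hok
  rcases h0 : Nat.beq p.2.1 0 with _ | _
  · rw [h0, cond_false] at hok
    rcases h1 : Nat.beq p.2.1 1 with _ | _
    · rw [h1, cond_false] at hok
      rcases h1' : Nat.beq p.2.1 2 with _ | _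
      · rw [h1', cond_false] at hok
        have h := eval_eq_one out_ok hF.simple hok
        rw [eval_append, eval_cons, eval_nil, mul_one,
          idInv_one hF.simple (a := pZ) (b := pZi) (c := 1) (by decide), mul_inv_eq_one] at h
        exact Or.inr h
      · rw [h1', cond_true] at hok
        have h := eval_eq_one out_ok hF.simple hok
        rw [eval_append, eval_cons, eval_nil, mul_one,
          idInv_one hF.simple (a := pY) (b := pYi) (c := 1) (by decide), mul_inv_eq_one] at h
        exact Or.inl h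
    · rw [h1, cond_true] at hok
      have h := eval_eq_one out_ok hF.simple hok
      rw [eval_append] at h
      exact absurd h h2
  · rw [h0, cond_true] at hok
    refine absurd ?_ (eval_ne_one out_ok hok)
    rw [eval_append, eval_append, eval_append, ← h4]
    simp [pow_succ, mul_assoc]

theorem finite_on : Finite ON := Nat.finite_of_card_ne_zero (by rw [hF.card]; norm_num)

/-- A conjugate of any automorphism fixes the first two elements and the image of the third is one
of two. -/
theorem normalise (φ : MulAut ON) : ∃ g : ON,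
    (MulAut.conj g * φ) gX = gX ∧ (MulAut.conj g * φ) gN = gN ∧
      ((MulAut.conj g * φ) gY = gY ∨ (MulAut.conj g * φ) gY = gZ) := by
  have := finite_on hF
  have := Fact.mk (show Nat.Prime 19 by norm_num)
  have hfac : (Nat.card ON).factorization 19 = 1 := by
    rw [hF.card, show (460815505920 : ℕ) = 19 ^ 1 * 24253447680 by norm_num,
      Nat.factorization_mul (by norm_num) (by norm_num), Finsupp.add_apply,
      Nat.factorization_pow_self (by norm_num), Nat.factorization_eq_zero_of_not_dvd (by norm_num)]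
  have hord : orderOf (φ gX) = 19 := by rw [MulEquiv.orderOf_eq, orderOf_gX hF]
  have hcard : ∀ u : ON, orderOf u = 19 → Nat.card (Subgroup.zpowers u) = 19 ^ (Nat.card ON).factorization 19 :=
    fun u hu => by rw [Nat.card_zpowers, hu, hfac, pow_one]
  obtain ⟨g1, hg1⟩ := MulAction.exists_smul_eq ON (Sylow.ofCard (Subgroup.zpowers (φ gX)) (hcard _ hord))
    (Sylow.ofCard (Subgroup.zpowers gX) (hcard _ (orderOf_gX hF)))
  obtain ⟨k, hk19, hk⟩ : ∃ k < 19, (MulAut.conj g1 * φ) gX = gX ^ k := by
    have h1 : MulAut.conj g1 (φ gX) ∈ Subgroup.zpowers gX := by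
      have h2 := congrArg Sylow.toSubgroup hg1
      rw [Sylow.coe_subgroup_smul, Sylow.coe_ofCard, Sylow.coe_ofCard] at h2
      rw [← h2]
      exact Subgroup.smul_mem_pointwise_smul _ _ _ (Subgroup.mem_zpowers _)
    rw [← mem_powers_iff_mem_zpowers] at h1
    obtain ⟨k, hk⟩ := h1
    refine ⟨k % 19, Nat.mod_lt _ (by norm_num), ?_⟩
    rw [MulAut.mul_apply, ← pow_eq_pow_mod k (gX_pow hF)]
    exact hk.symm
  have hk0 : k ≠ 0 := by
    rintro rfl
    rw [pow_zero, MulEquiv.map_eq_one_iff] at hk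
    exact gX_ne hF hk
  obtain ⟨j, r, hr, hjr⟩ : ∃ j r : ℕ, (r = 1 ∨ r = 2 ∨ r = 4) ∧ k * 12 ^ j % 19 = r := by
    have h : ∀ k < 19, k ≠ 0 → ∃ j ∈ List.range 6, k * 12 ^ j % 19 = 1 ∨ k * 12 ^ j % 19 = 2 ∨
        k * 12 ^ j % 19 = 4 := by decide +kernel
    obtain ⟨j, -, hj⟩ := h k hk19 hk0
    exact ⟨j, _, hj, rfl⟩
  have hconjX : ∀ (j m : ℕ), (gN ^ j)⁻¹ * gX ^ m * gN ^ j = gX ^ (m * 12 ^ j) := by
    intro j
    induction j with
    | zero => intro m; simp
    | succ j ih =>
      intro m
      have h1 : gN⁻¹ * gX ^ (m * 12 ^ j) * gN = gX ^ (m * 12 ^ (j + 1)) := by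
        conv_rhs => rw [show m * 12 ^ (j + 1) = 12 * (m * 12 ^ j) by ring, pow_mul gX 12, ← gN_conj hF]
        have := (conj_pow (a := gN⁻¹) (b := gX) (i := m * 12 ^ j))
        rw [inv_inv] at this
        exact this.symm
      rw [← h1, ← ih m, pow_succ]
      group
  set β := MulAut.conj ((gN ^ j)⁻¹ * g1) * φ with hβ
  have hβX : β gX = gX ^ r := by
    rw [hβ, map_mul, mul_assoc, MulAut.mul_apply, hk, MulAut.conj_apply, inv_inv, hconjX,
      pow_eq_pow_mod _ (gX_pow hF), hjr]
  have hq : Commute (β gN * gN⁻¹) gX := by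
    have h1 : (β gN)⁻¹ * gX ^ r * β gN = gN⁻¹ * gX ^ r * gN := by
      have h2 := hconjX 1 r
      rw [pow_one, pow_one] at h2
      rw [h2, ← hβX, ← map_inv, ← map_mul, ← map_mul, gN_conj hF, map_pow, hβX, pow_mul]
    have h3 : Commute (β gN * gN⁻¹) (gX ^ r) := by
      calc β gN * gN⁻¹ * gX ^ r = β gN * (gN⁻¹ * gX ^ r * gN) * gN⁻¹ := by group
        _ = β gN * ((β gN)⁻¹ * gX ^ r * β gN) * gN⁻¹ := by rw [h1]
        _ = gX ^ r * (β gN * gN⁻¹) := by group
    obtain ⟨s, hs⟩ : ∃ s : ℕ, r * s % 19 = 1 := by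
      rcases hr with rfl | rfl | rfl
      exacts [⟨1, rfl⟩, ⟨10, rfl⟩, ⟨5, rfl⟩]
    have h4 := h3.pow_right s
    rwa [← pow_mul, pow_eq_pow_mod _ (gX_pow hF), hs, pow_one] at h4
  obtain ⟨i, -, hi⟩ := cent_gX hF hq
  have hβN : β gN = gX ^ i * gN := by rw [← hi, inv_mul_cancel_right]
  set γ := MulAut.conj (gX ^ (11 * i)) * β with hγ
  have hγX : γ gX = gX ^ r := by
    rw [hγ, MulAut.mul_apply, hβX, MulAut.conj_apply,
      (Commute.pow_pow_self gX (11 * i) r).eq, mul_inv_cancel_right]
  have hγN : γ gN = gN := by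
    rw [hγ, MulAut.mul_apply, hβN, MulAut.conj_apply]
    have h1 : gN * (gX ^ (11 * i))⁻¹ * gN⁻¹ = (gX ^ (8 * (11 * i)))⁻¹ := by
      rw [← conj_inv]
      congr 1
      have h2 := hconjX 1 (8 * (11 * i))
      rw [pow_one, pow_one] at h2
      rw [show gX ^ (11 * i) = gN⁻¹ * gX ^ (8 * (11 * i)) * gN by
        rw [h2, pow_eq_pow_mod (8 * (11 * i) * 12) (gX_pow hF), pow_eq_pow_mod (11 * i) (gX_pow hF)]
        congr 1
        omega]
      group
    calc gX ^ (11 * i) * (gX ^ i * gN) * (gX ^ (11 * i))⁻¹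
        = gX ^ (11 * i) * gX ^ i * (gN * (gX ^ (11 * i))⁻¹ * gN⁻¹) * gN := by group
      _ = gN := by
        rw [h1, ← pow_add, mul_inv_eq_one.2 ?_, one_mul]
        rw [pow_eq_pow_mod (11 * i + i) (gX_pow hF), pow_eq_pow_mod (8 * (11 * i)) (gX_pow hF)]
        congr 1
        omega
  have hy : γ gY = gY ∨ γ gY = gZ := by
    refine image_gY hF ?_ ?_ ?_
    · have := (gY_comm hF).map γ.toMonoidHom
      simpa [hγN] using this
    · rw [← map_pow, gY_four hF, map_one]
    · rw [← map_mul, Ne, MulEquiv.map_eq_one_iff]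
      exact gY_two hF
  have hr1 : r = 1 := by
    by_contra hne
    have hrel : (gX ^ r * γ gY) ^ 11 = 1 := by
      rw [← hγX, ← map_mul, ← map_pow, rel_eleven hF, map_one]
    have hw : ∀ n l : ℕ, eval outD ((List.replicate 11 (List.replicate n pX ++ [l])).flatten) =
        (gX ^ n * v l) ^ 11 := by
      intro n l
      generalize 11 = m
      induction m with
      | zero => simp [eval]
      | succ m ih =>
        rw [List.replicate_succ, List.flatten_cons, eval_append, ih, pow_succ', eval_append,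
          eval_replicate, eval_cons, eval_nil, mul_one]
    have hbad : ∀ n l : ℕ, (List.replicate 11 (List.replicate n pX ++ [l])).flatten ∈ noK →
        (gX ^ n * v l) ^ 11 ≠ 1 := fun n l hm => by
      rw [← hw]
      exact eval_ne_one out_ok (List.all_eq_true.mp noK_ok _ hm)
    rcases hr with rfl | rfl | rfl
    · exact hne rfl
    · rcases hy with hy | hy <;> rw [hy] at hrel
      · exact hbad 2 pY (by decide +kernel) hrel
      · exact hbad 2 pZ (by decide +kernel) hrel
    · rcases hy with hy | hy <;> rw [hy] at hrel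
      · exact hbad 4 pY (by decide +kernel) hrel
      · exact hbad 4 pZ (by decide +kernel) hrel
  subst hr1
  refine ⟨gX ^ (11 * i) * ((gN ^ j)⁻¹ * g1), ?_⟩
  rw [map_mul, mul_assoc, ← hβ, ← hγ, hγX, pow_one]
  exact ⟨rfl, hγN, hy⟩

theorem closure_three : Subgroup.closure ({gX, gN, gY} : Set ON) = ⊤ := by
  set K := Subgroup.closure ({gX, gN, gY} : Set ON)
  have h0 : ∀ l : ℕ, l = pX ∨ l = pXi ∨ l = pN ∨ l = pNi ∨ l = pY ∨ l = pYi → v l ∈ K := by
    have mX : gX ∈ K := Subgroup.subset_closure (by simp)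
    have mN : gN ∈ K := Subgroup.subset_closure (by simp)
    have mY : gY ∈ K := Subgroup.subset_closure (by simp)
    rintro l (rfl | rfl | rfl | rfl | rfl | rfl)
    · exact mX
    · rw [vXi hF.simple]; exact inv_mem mX
    · exact mN
    · rw [vNi hF.simple]; exact inv_mem mN
    · exact mY
    · rw [idInv_one hF.simple (a := pY) (b := pYi) (c := 1) (by decide)]; exact inv_mem mY
  have hdef : ∀ i < 30, 8 ≤ i → ∀ l ∈ outD.getD i [],
      (l = pX ∨ l = pXi ∨ l = pN ∨ l = pNi ∨ l = pY ∨ l = pYi) ∨ (16 ≤ l ∧ l < 8 + i) := by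
    decide +kernel
  have hmem : ∀ n, ∀ i < n, 8 ≤ i → i < 30 → v (8 + i) ∈ K := by
    intro n
    induction n with
    | zero => intro i hi; omega
    | succ n ih =>
      intro i hi h8 h30
      rw [v_def i (by omega), eval]
      refine list_prod_mem fun y hy => ?_
      obtain ⟨l, hl, rfl⟩ := List.mem_map.1 hy
      rcases hdef i h30 h8 l hl with h | ⟨ha, hb⟩
      · exact h0 l h
      · have := ih (l - 8) (by omega) (by omega) (by omega)
        rwa [show 8 + (l - 8) = l by omega] at this
  rw [eq_top_iff, ← PresentedGroup.closure_range_of, Subgroup.closure_le]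
  rintro _ ⟨x, rfl⟩
  obtain ⟨i, h8, h30, j, hj, c, hc, hjx⟩ : ∃ i, 8 ≤ i ∧ i < 30 ∧ ∃ j, j < 8 ∧ ∃ c,
      ([8 + i, j], c) ∈ idGen ∧ letterFun ONMult.of (invl j) = PresentedGroup.of x := by
    cases x
    · exact ⟨28, by norm_num, by norm_num, 7, by norm_num, 2, by decide, rfl⟩
    · exact ⟨22, by norm_num, by norm_num, 0, by norm_num, 4, by decide, rfl⟩
    · exact ⟨23, by norm_num, by norm_num, 1, by norm_num, 1, by decide, rfl⟩
    · exact ⟨24, by norm_num, by norm_num, 2, by norm_num, 2, by decide, rfl⟩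
    · exact ⟨25, by norm_num, by norm_num, 3, by norm_num, 2, by decide, rfl⟩
    · exact ⟨26, by norm_num, by norm_num, 4, by norm_num, 1, by decide, rfl⟩
    · exact ⟨27, by norm_num, by norm_num, 5, by norm_num, 2, by decide, rfl⟩
  have h := id_one hF.simple idGen_ok _ hc
  rw [eval_cons, eval_cons, eval_nil, mul_one, mul_eq_one_iff_eq_inv, ← v_invl hj,
    v_letter (l := invl j) (by interval_cases j <;> decide), hjx] at h
  exact h ▸ hmem 30 i h30 h8 h30

/-- The images of the generators under the outer automorphism. -/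
noncomputable def img' (x : ON.Gen) : ON := v (posP.getD (Cfsg.Agent.H59.ONRep.ixG x) 0)

omit hF in
theorem posP_lt : ∀ j < 7, posP.getD j 0 < 98 := by decide

theorem img'_letter : ∀ l < 8, letterFun img' l = v (posP.getD l 0) := by
  intro l hl
  interval_cases l
  · rfl
  · rfl
  · rfl
  · rfl
  · rfl
  · rfl
  · rfl
  · have h := id_one hF.simple idThA_ok ([posP.getD 6 0, posP.getD 7 0], 2) (by decide)
    rw [eval_cons, eval_cons, eval_nil, mul_one] at h
    show (v (posP.getD 6 0))⁻¹ = _
    exact inv_eq_of_mul_eq_one_right h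

theorem img'_eval (w : List ℕ) (hw : ∀ l ∈ w, l < 8) :
    Cfsg.Agent.H59.ONMult.Deriv.ev (letterFun img') w = eval outD (w.map fun l => posP.getD l 0) := by
  rw [Cfsg.Agent.H59.ONMult.Deriv.ev, eval, List.map_map]
  exact congrArg List.prod (List.map_congr_left fun l hl => img'_letter hF l (hw l hl))

theorem img'_cox : CoxHolds ON.edges img' := by
  have key : ∀ x y : ON.Gen, Cfsg.Agent.H59.ONRep.ixG x ≤ Cfsg.Agent.H59.ONRep.ixG y →
      Cfsg.Agent.H59.ONRep.ixG y < 6 → (img' x * img' y) ^ coxLabel ON.edges x y = 1 := by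
    intro x y hxy hy
    have hmem : ∃ c, (c = 1 ∨ c = 2 ∨ c = 4) ∧ ((List.replicate (coxLabel ON.edges x y)
        [posP.getD (Cfsg.Agent.H59.ONRep.ixG x) 0, posP.getD (Cfsg.Agent.H59.ONRep.ixG y) 0]).flatten, c)
          ∈ idThA ∨ (x = y ∧ ([posP.getD (Cfsg.Agent.H59.ONRep.ixG x) 0,
            posP.getD (Cfsg.Agent.H59.ONRep.ixG y) 0], c) ∈ idThA) := by
      revert hxy hy
      cases x <;> cases y <;> intro hxy hy <;>
        first
          | (exfalso; revert hy; decide)
          | (exfalso; revert hxy; decide)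
          | exact ⟨1, by decide +kernel⟩
          | exact ⟨2, by decide +kernel⟩
          | exact ⟨4, by decide +kernel⟩
    obtain ⟨c, hm⟩ := hmem
    rcases hm with ⟨-, hm⟩ | ⟨hxy', hm⟩
    · have h := id_one hF.simple idThA_ok _ hm
      rw [← h]
      generalize coxLabel ON.edges x y = m
      induction m with
      | zero => simp [eval]
      | succ m ih =>
        rw [List.replicate_succ, List.flatten_cons, eval_append, pow_succ', ih]
        simp [eval, img']
    · have h := id_one hF.simple idThA_ok _ hm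
      subst hxy'
      rw [show coxLabel ON.edges x x = 1 by simp [coxLabel], pow_one]
      simpa [eval, img'] using h
  intro x hx y hy
  have hx' : Cfsg.Agent.H59.ONRep.ixG x < 6 := by
    cases x <;> first | decide | (exfalso; revert hx; decide)
  have hy' : Cfsg.Agent.H59.ONRep.ixG y < 6 := by
    cases y <;> first | decide | (exfalso; revert hy; decide)
  rcases Nat.le_total (Cfsg.Agent.H59.ONRep.ixG x) (Cfsg.Agent.H59.ONRep.ixG y) with h | h
  · exact key x y h hy'
  · have h1 := key y x h hx'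
    have hl : coxLabel ON.edges x y = coxLabel ON.edges y x := by
      revert hx hy; cases x <;> cases y <;> decide
    rw [hl, show img' x * img' y = (img' y)⁻¹ * (img' y * img' x) * (img' y)⁻¹⁻¹ by group,
      conj_pow, h1, mul_one, mul_inv_cancel]

theorem img'_rels : ∀ r ∈ coxRelators ON.edges ∪ {r | r ∈ ON.extra}, FreeGroup.lift img' r = 1 := by
  rintro r (⟨x, hx, y, hy, rfl⟩ | hr)
  · rw [map_pow, map_mul, FreeGroup.lift_apply_of, FreeGroup.lift_apply_of]
    exact img'_cox hF x hx y hy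
  · obtain ⟨i, hi, rfl⟩ := List.getElem_of_mem (show r ∈ ON.extra from hr)
    have hi7 : i < 7 := by simpa [ON.extra] using hi
    have he := Cfsg.Agent.H59.ONMult.ev_relWords img' (img'_cox hF) (k := i + 15) (by omega)
    rw [if_neg (by omega), Nat.add_sub_cancel, Cfsg.Agent.H59.ONMult.extraVal,
      List.getD_eq_getElem _ _ hi] at he
    have hw : ∀ l ∈ Cfsg.Agent.H59.ONMult.relWords.getD (i + 15) [], l < 8 := by
      revert hi7; clear he hr hi; revert i; decide +kernel
    rw [← he, img'_eval hF _ hw]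
    have hm : (Cfsg.Agent.H59.ONMult.relWords.getD (i + 15) []).map (fun l => posP.getD l 0) ∈
        idThB.map Prod.fst := by
      revert hi7; clear he hr hi hw; revert i; decide +kernel
    obtain ⟨p, hp, hpe⟩ := List.mem_map.1 hm
    rw [← hpe]
    exact id_one hF.simple idThB_ok p hp

/-- The outer automorphism as an endomorphism. -/
noncomputable def thetaHom : ON →* ON := PresentedGroup.toGroup (img'_rels hF)

theorem thetaHom_word (w : List ℕ) (hw : ∀ l ∈ w, l < 8) :
    thetaHom hF (Cfsg.Agent.H59.ONMult.Deriv.ev (letterFun ONMult.of) w) =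
      eval outD (w.map fun l => posP.getD l 0) := by
  rw [Cfsg.Agent.H59.ONMult.ev_map,
    show (fun x => thetaHom hF (letterFun ONMult.of x)) = letterFun img' from funext fun x => by
      rw [Cfsg.Agent.H59.ONMult.letterFun_map]
      simp only [thetaHom, PresentedGroup.toGroup.of]]
  exact img'_eval hF w hw

theorem thetaHom_v (i : ℕ) (hi : i < 90) (hlt : ∀ l ∈ outD.getD i [], l < 8) :
    thetaHom hF (v (8 + i)) = eval outD ((outD.getD i []).map fun l => posP.getD l 0) := by
  rw [← thetaHom_word hF _ hlt, v_def i hi]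
  congr 1
  rw [eval, Cfsg.Agent.H59.ONMult.Deriv.ev]
  exact congrArg List.prod (List.map_congr_left fun l hl => v_letter (hlt l hl))

theorem thetaHom_values : thetaHom hF gX = gX ∧ thetaHom hF gN = gN ∧ thetaHom hF gY = gZ := by
  have key : ∀ (i a b : ℕ), i < 90 → (∀ l ∈ outD.getD i [], l < 8) →
      (∃ c, ((outD.getD i []).map (fun l => posP.getD l 0) ++ [b], c) ∈ idThC) →
      v b = (v a)⁻¹ → thetaHom hF (v (8 + i)) = v a := by
    rintro i a b hi hlt ⟨c, hc⟩ hb
    rw [thetaHom_v hF i hi hlt]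
    have h := id_one hF.simple idThC_ok _ hc
    rwa [eval_append, eval_cons, eval_nil, mul_one, hb, mul_inv_eq_one] at h
  refine ⟨?_, ?_, ?_⟩
  · exact key 0 pX pXi (by norm_num) (by decide +kernel) ⟨1, by decide +kernel⟩ (vXi hF.simple)
  · exact key 2 pN pNi (by norm_num) (by decide +kernel) ⟨4, by decide +kernel⟩ (vNi hF.simple)
  · exact key 4 pZ pZi (by norm_num) (by decide +kernel) ⟨1, by decide +kernel⟩
      (idInv_one hF.simple (a := pZ) (b := pZi) (c := 1) (by decide))

theorem thetaHom_bijective : Function.Bijective (thetaHom hF) := by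
  have := finite_on hF
  have := hF.simple
  refine Finite.injective_iff_bijective.mp ?_
  rcases (inferInstance : (thetaHom hF).ker.Normal).eq_bot_or_eq_top with hb | ht
  · exact (MonoidHom.ker_eq_bot_iff _).mp hb
  · exfalso
    refine gX_ne hF ?_
    rw [← (thetaHom_values hF).1, ← MonoidHom.mem_ker, ht]
    exact Subgroup.mem_top _

/-- The outer automorphism. -/
noncomputable def theta : MulAut ON := MulEquiv.ofBijective (thetaHom hF) (thetaHom_bijective hF)

theorem theta_not_inner : theta hF ∉ Cfsg.Inn ON := by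
  rintro ⟨g, hg⟩
  obtain ⟨eX, eN, eY⟩ := thetaHom_values hF
  have ap : ∀ u, g * u * g⁻¹ = thetaHom hF u := fun u => DFunLike.congr_fun hg u
  have hx : Commute g gX := mul_inv_eq_iff_eq_mul.1 ((ap gX).trans eX)
  have hn : Commute g gN := mul_inv_eq_iff_eq_mul.1 ((ap gN).trans eN)
  have h1 := eq_one_of_commute hF hx hn
  refine gY_ne_gZ hF ?_
  rw [← eY, ← ap gY, h1, one_mul, inv_one, mul_one]

/-- The outer automorphism group has order two. -/
theorem card_out : Nat.card (Cfsg.Out ON) = 2 := by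
  have heq : ∀ c d : MulAut ON, c gX = d gX → c gN = d gN → c gY = d gY → c = d := by
    intro c d hx hn hy
    have h := MonoidHom.eq_of_eqOn_dense (f := c.toMonoidHom) (g := d.toMonoidHom)
      (closure_three hF) (by rintro z (rfl | rfl | rfl) <;> assumption)
    exact MulEquiv.ext fun z => DFunLike.congr_fun h z
  have hm : ∀ (g : ON) (c : MulAut ON),
      (QuotientGroup.mk (MulAut.conj g * c) : Cfsg.Out ON) = QuotientGroup.mk c := fun g c => by
    have h1 : QuotientGroup.mk' (Cfsg.Inn ON) (MulAut.conj g) = 1 :=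
      (QuotientGroup.eq_one_iff _).2 (MonoidHom.mem_range.2 ⟨g, rfl⟩)
    show QuotientGroup.mk' (Cfsg.Inn ON) (MulAut.conj g * c) = QuotientGroup.mk' (Cfsg.Inn ON) c
    rw [map_mul, h1, one_mul]
  rw [Nat.card_eq_two_iff]
  refine ⟨1, QuotientGroup.mk (theta hF), fun e => theta_not_inner hF
    ((QuotientGroup.eq_one_iff _).1 e.symm), ?_⟩
  rw [Set.eq_univ_iff_forall]
  intro q
  obtain ⟨a, rfl⟩ := QuotientGroup.mk_surjective q
  obtain ⟨g, hx, hn, hy | hy⟩ := normalise hF a
  · left
    rw [← hm g a, heq (MulAut.conj g * a) 1 hx hn hy]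
    rfl
  · right
    obtain ⟨eX, eN, eY⟩ := thetaHom_values hF
    rw [Set.mem_singleton_iff, ← hm g a,
      heq (MulAut.conj g * a) (theta hF) (hx.trans eX.symm) (hn.trans eN.symm) (hy.trans eY.symm)]

end

end Cfsg.Agent.H59.ONOut
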