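import Cfsg.Agent.H59.ONOut.FixAll
import Cfsg.Agent.H59.ONOut.Main
import Cfsg.Agent.H83.ONUpper.Main

/-!
The fixed cosets of the two chosen elements, from the coset table of `⟨a, …, f⟩`.
-/

set_option autoImplicit false
set_option maxRecDepth 100000

namespace Cfsg.Agent.H59.ONOut

open Cfsg.Spor
open Cfsg.Agent.H45 (evalW evalW_cons evalW_nil)
open Cfsg.Agent.H83.ONUpper (W0 let8 tab tgt8)
open Cfsg.Agent.H59.ONMult (letterFun)

theorem W_eq : W = W0 := by
  obtain ⟨η, hη⟩ := Cfsg.Agent.H45.OnWMain.exists_eta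
  have h1 : η.range = W := by
    rw [MonoidHom.range_eq_map, ← PresentedGroup.closure_range_of, MonoidHom.map_closure, W]
    congr 1
    ext y
    constructor
    · rintro ⟨_, ⟨l, rfl⟩, rfl⟩
      exact ⟨l, (hη l).symm⟩
    · rintro ⟨l, rfl⟩
      exact ⟨_, ⟨l, rfl⟩, hη l⟩
  exact h1.symm.trans (Cfsg.Agent.H45.OnWMain.range_eta η hη)

theorem evalW_l8 : ∀ w : List ℕ, (∀ l ∈ w, l < 8) → evalW let8 (w.map l8) = eval outD w
  | [], _ => rfl
  | l :: w, h => by
    have hl : l < 8 := h l List.mem_cons_self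
    rw [List.map_cons, evalW_cons, evalW_l8 w fun m hm => h m (List.mem_cons_of_mem _ hm),
      eval_cons, show v l = let8 (l8 l) by rw [v_letter hl]; interval_cases l <;> rfl]

theorem evalW_tX : evalW let8 tX = gX := by
  rw [gX_eq, ← eval_fin, ← evalW_l8 _ (fun l hl => ?_)]
  · rfl
  · obtain ⟨m, -, rfl⟩ := List.mem_map.1 hl
    omega

theorem evalW_tN : evalW let8 tN = gN := by
  rw [gN_eq, ← eval_fin, ← evalW_l8 _ (fun l hl => ?_)]
  · rfl
  · obtain ⟨m, -, rfl⟩ := List.mem_map.1 hl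
    omega

theorem repr_words : ∀ r ∈ posR, 8 ≤ r.1 ∧ r.1 - 8 < 90 ∧
    (∀ l ∈ outD.getD (r.1 - 8) [], l < 8) := by decide +kernel

/-- A numbering of the cosets on which the letters act by the table. -/
theorem exists_numbering (hcard : Nat.card ON = 460815505920) :
    ∃ rep : ℕ → ON, rep 0 = 1 ∧ (∀ x : ON, ∃ i < 122760, x * (rep i)⁻¹ ∈ W0) ∧
      (∀ i j, i < 122760 → j < 122760 → rep i * (rep j)⁻¹ ∈ W0 → i = j) ∧
      ∀ (w : List ℕ), (∀ l ∈ w, l < 8) → ∀ i, i < 122760 →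
        walkN w i < 122760 ∧ rep i * evalW let8 w * (rep (walkN w i))⁻¹ ∈ W0 := by
  obtain ⟨rep, h0, hlt, hE, hcov⟩ := Cfsg.Agent.H83.ONUpper.table_cover
  refine ⟨rep, h0, hcov, ?_, ?_⟩
  · have hidx : W0.index = 122760 := by
      have h1 := W0.card_mul_index
      rw [hcard] at h1
      obtain ⟨-, hle⟩ := Cfsg.Agent.H83.ONUpper.card_W0
      refine le_antisymm Cfsg.Agent.H83.ONUpper.index_le ?_
      by_contra hh
      have : Nat.card W0 * W0.index ≤ 3753792 * 122759 := Nat.mul_le_mul hle (by omega)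
      omega
    haveI : W0.FiniteIndex := ⟨by omega⟩
    let f : Fin 122760 → ON ⧸ W0 := fun i => QuotientGroup.mk (rep i.1)⁻¹
    have hs : Function.Surjective f := by
      intro q
      obtain ⟨x, rfl⟩ := QuotientGroup.mk_surjective q
      obtain ⟨i, hi, hx⟩ := hcov x⁻¹
      refine ⟨⟨i, hi⟩, QuotientGroup.eq.2 ?_⟩
      rw [inv_inv]
      simpa using W0.inv_mem hx
    have hb : Function.Bijective f := (Nat.bijective_iff_surjective_and_card f).2
      ⟨hs, by rw [Nat.card_fin, ← Subgroup.index_eq_card, hidx]⟩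
    intro i j hi hj h
    have := hb.1 (a₁ := ⟨i, hi⟩) (a₂ := ⟨j, hj⟩) (QuotientGroup.eq.2 (by rwa [inv_inv]))
    exact congrArg Fin.val this
  · intro w
    induction w with
    | nil => intro _ i hi; exact ⟨hi, by simp [walkN, evalW]⟩
    | cons l w ih =>
      intro hw i hi
      have hl := hw l List.mem_cons_self
      obtain ⟨h1, h2⟩ := ih (fun m hm => hw m (List.mem_cons_of_mem _ hm)) _ (hlt i l hi hl)
      refine ⟨h1, ?_⟩
      have := W0.mul_mem (hE i hi l hl) h2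
      rw [evalW_cons]
      simpa [walkN, mul_assoc] using this

variable (hcard : Nat.card ON = 460815505920)
include hcard

/-- The coset of a conjugator lies among those fixed by the element. -/
theorem walk_fixed {rep : ℕ → ON} (hinj : ∀ i j, i < 122760 → j < 122760 →
      rep i * (rep j)⁻¹ ∈ W0 → i = j)
    (hwalk : ∀ (w : List ℕ), (∀ l ∈ w, l < 8) → ∀ i, i < 122760 →
      walkN w i < 122760 ∧ rep i * evalW let8 w * (rep (walkN w i))⁻¹ ∈ W0)
    {w : List ℕ} (hw : ∀ l ∈ w, l < 8) {g : ON} (hg : g * evalW let8 w * g⁻¹ ∈ W0) {i : ℕ}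
    (hi : i < 122760) (hgi : g * (rep i)⁻¹ ∈ W0) : walkN w i = i := by
  obtain ⟨h1, h2⟩ := hwalk w hw i hi
  refine hinj _ _ h1 hi ?_
  have h3 := W0.mul_mem (W0.inv_mem h2) (W0.mul_mem (W0.mul_mem (W0.inv_mem hgi) hg) hgi)
  simpa [mul_assoc] using h3

theorem fixX_table : ∀ g : ON, g * gX * g⁻¹ ∈ W → g ∈ W := by
  intro g hg
  rw [W_eq] at hg ⊢
  rw [← evalW_tX] at hg
  obtain ⟨rep, h0, hcov, hinj, hwalk⟩ := exists_numbering hcard
  obtain ⟨i, hi, hgi⟩ := hcov g
  have hf := walk_fixed hcard hinj hwalk (by decide) hg hi hgi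
  have hc := fix_all i (Nat.zero_le _) hi
  rcases Nat.eq_zero_or_pos i with rfl | hp
  · simpa [h0] using hgi
  · exfalso
    rw [fixOK, show Nat.beq i 0 = false by rw [Bool.eq_false_iff, ne_eq, Nat.beq_eq]; omega] at hc
    simp [Cfsg.Agent.H25.Fi23.ifB_eq, Cfsg.Agent.H25.Fi23.andB_eq, walkC_eq, hf] at hc

theorem fixN_table : ∀ g : ON, g * gN * g⁻¹ ∈ W →
    g ∈ W ∨ ∃ r ∈ posR, g * (v r.1)⁻¹ ∈ W := by
  intro g hg
  rw [W_eq] at hg ⊢
  rw [← evalW_tN] at hg
  obtain ⟨rep, h0, hcov, hinj, hwalk⟩ := exists_numbering hcard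
  obtain ⟨i, hi, hgi⟩ := hcov g
  have hf := walk_fixed hcard hinj hwalk (by decide) hg hi hgi
  have hc := fix_all i (Nat.zero_le _) hi
  rcases Nat.eq_zero_or_pos i with rfl | hp
  · exact Or.inl (by simpa [h0] using hgi)
  · right
    rw [fixOK, show Nat.beq i 0 = false by rw [Bool.eq_false_iff, ne_eq, Nat.beq_eq]; omega] at hc
    simp only [Cfsg.Agent.H25.Fi23.ifB_eq, Cfsg.Agent.H25.Fi23.andB_eq, cond_false, walkC_eq, hf,
      Nat.beq_refl, cond_true, Bool.and_eq_true, isRepC, List.any_eq_true, Nat.beq_eq] at hc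
    obtain ⟨-, r, hr, hri⟩ := hc
    refine ⟨r, hr, ?_⟩
    obtain ⟨h8, h90, hlt⟩ := repr_words r hr
    have hlt' : ∀ l ∈ (outD.getD (r.1 - 8) []).map l8, l < 8 := by
      intro l hl
      obtain ⟨m, hm, rfl⟩ := List.mem_map.1 hl
      have := hlt m hm
      unfold l8; split <;> omega
    obtain ⟨-, h2⟩ := hwalk _ hlt' 0 (by norm_num)
    rw [hri, h0, one_mul, evalW_l8 _ hlt, ← v_def _ h90, show 8 + (r.1 - 8) = r.1 by omega] at h2
    have := W0.mul_mem hgi (W0.inv_mem h2)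
    simpa [mul_assoc] using this

/-- All that the count of outer automorphisms assumes. -/
theorem facts (hs : IsSimpleGroup ON) : Facts :=
  ⟨hs, hcard, fixX_table hcard, fixN_table hcard⟩

end Cfsg.Agent.H59.ONOut
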