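import Cfsg.Agent.H59.ONOut.OutWords

/-!
Kernel checks of small facts on the chosen elements.
-/

set_option autoImplicit false
set_option Elab.async false
set_option maxRecDepth 100000

namespace Cfsg.Agent.H59.ONOut

theorem basicId_ok : ([(List.replicate 19 pX, 1), ([pNi, pX, pN] ++ List.replicate 12 pXi, 1),
    ([pY, pY, pY, pY], 2)] : List (List Nat × Nat)).all (chkId outE 90) = true := by decide +kernel

theorem basicNo_ok : ([[pX], [pY, pY]] : List (List Nat)).all (chkNo outE 90) = true := by
  decide +kernel

end Cfsg.Agent.H59.ONOut
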