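import Cfsg.Agent.H59.ONOut.OutWords

/-!
Kernel checks of the classification of the centraliser of the element of order six.
-/

set_option autoImplicit false
set_option Elab.async false
set_option maxRecDepth 100000

namespace Cfsg.Agent.H59.ONOut

/-- check of one classified product -/
noncomputable def clsOK (p : List Nat × Nat × Nat) : Bool :=
  bif Nat.beq p.2.1 0 then chkNo outE 90 (p.1 ++ p.1 ++ p.1 ++ p.1)
  else bif Nat.beq p.2.1 1 then chkId outE 90 (p.1 ++ p.1, p.2.2)
  else bif Nat.beq p.2.1 2 then chkId outE 90 (p.1 ++ [pYi], p.2.2)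
  else chkId outE 90 (p.1 ++ [pZi], p.2.2)

end Cfsg.Agent.H59.ONOut
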