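import Cfsg.Agent.H59.ONOut.OutData

/-!
Kernel checks of definitions, part 4.
-/

set_option autoImplicit false
set_option Elab.async false
set_option maxRecDepth 100000

namespace Cfsg.Agent.H59.ONOut

theorem defs4 : (List.range' 65 16).all (chkDef outE outD) = true := by decide +kernel

end Cfsg.Agent.H59.ONOut
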