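import Cfsg.Agent.H59.ONOut.OutWords

/-!
Kernel checks of identities.
-/

set_option autoImplicit false
set_option Elab.async false
set_option maxRecDepth 100000

namespace Cfsg.Agent.H59.ONOut

theorem idGen_ok : idGen.all (chkId outE 90) = true := by decide +kernel

theorem idInv_ok : idInv.all (chkId outE 90) = true := by decide +kernel

theorem idNq_ok : idNq.all (chkId outE 90) = true := by decide +kernel

theorem idCC_ok : idCC.all (chkId outE 90) = true := by decide +kernel

theorem idY_ok : idY.all (chkId outE 90) = true := by decide +kernel

theorem idThA_ok : idThA.all (chkId outE 90) = true := by decide +kernel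

theorem idThB_ok : idThB.all (chkId outE 90) = true := by decide +kernel

theorem idThC_ok : idThC.all (chkId outE 90) = true := by decide +kernel

theorem noY_ok : chkNo outE 90 [pY, pZi] = true := by decide +kernel

end Cfsg.Agent.H59.ONOut
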