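import Cfsg.Agent.H59.ONOut.OutBasic
import Cfsg.Agent.H59.ONOut.OutId
import Cfsg.Agent.H59.ONOut.OutNo
import Cfsg.Agent.H59.ONOut.OutDef0
import Cfsg.Agent.H59.ONOut.OutDef1
import Cfsg.Agent.H59.ONOut.OutDef2
import Cfsg.Agent.H59.ONOut.OutDef3
import Cfsg.Agent.H59.ONOut.OutDef4
import Cfsg.Agent.H59.ONOut.OutDef5
import Cfsg.Agent.H59.ONOut.OutCls0
import Cfsg.Agent.H59.ONOut.OutCls1
import Cfsg.Agent.H59.ONOut.OutCls2
import Cfsg.Agent.H59.ONOut.CentData
import Cfsg.Agent.H45.OnWMain

/-!
The chosen elements of the O'Nan group, the subgroup `⟨a, …, f⟩`, and transport of the facts about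
its model.
-/

set_option autoImplicit false
set_option maxRecDepth 100000

namespace Cfsg.Agent.H59.ONOut

open Cfsg.Spor
open Cfsg.Agent.H45
open Cfsg.Agent.H59.ONMult (letterFun letterFun_inv ev_inv_rev invl)

theorem out_ok : Ok outE outD := by
  refine ⟨rfl, fun i hi => ?_⟩
  have hn : outD.length = 90 := rfl
  rw [hn] at hi
  have h : ∀ {a b : ℕ}, (List.range' a b).all (chkDef outE outD) = true → a ≤ i → i < a + b →
      chkDef outE outD i = true := fun h ha hb =>
    List.all_eq_true.mp h i (List.mem_range'_1.mpr ⟨ha, hb⟩)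
  by_cases h1 : i < 16
  · exact h defs0 (Nat.zero_le _) h1
  by_cases h2 : i < 38
  · exact h defs1 (by omega) (by omega)
  by_cases h3 : i < 55
  · exact h defs2 (by omega) (by omega)
  by_cases h4 : i < 65
  · exact h defs3 (by omega) (by omega)
  by_cases h5 : i < 81
  · exact h defs4 (by omega) (by omega)
  · exact h defs5 (by omega) (by omega)

/-- The element of a letter of the programme. -/
noncomputable abbrev v (l : ℕ) : ON := val outD l

/-- The element of order 19. -/
noncomputable abbrev gX : ON := v pX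

/-- The element of order 6. -/
noncomputable abbrev gN : ON := v pN

/-- The element of order 4. -/
noncomputable abbrev gY : ON := v pY

/-- Its image under the outer automorphism. -/
noncomputable abbrev gZ : ON := v pZ

theorem v_def (i : ℕ) (hi : i < 90) : v (8 + i) = eval outD (outD.getD i []) := by
  refine val_def outD hi fun l hl => ?_
  have h := out_ok.2 i hi
  simp only [chkDef, Bool.and_eq_true, List.all_eq_true, Nat.blt_eq] at h
  exact h.1 l hl

theorem v_letter {l : ℕ} (hl : l < 8) : v l = letterFun ONMult.of l := val_letter outD hl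

/-- The element of a word in `a, …, f`. -/
noncomputable def wImg (w : List (Fin 6)) : ON := (w.map OnWMain.img).prod

theorem eval_fin (w : List (Fin 6)) : eval outD (w.map Fin.val) = wImg w := by
  rw [eval, wImg, List.map_map]
  congr 1
  refine List.map_congr_left fun l _ => ?_
  show v (l : ℕ) = OnWMain.img l
  rw [v_letter (by omega)]
  fin_cases l <;> rfl

theorem v_invl {l : ℕ} (hl : l < 8) : v (invl l) = (v l)⁻¹ := by
  rw [v_letter hl, v_letter (by interval_cases l <;> decide)]
  exact Cfsg.Agent.H59.ONMult.on_letter_inv l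

theorem eval_inv_word : ∀ w : List ℕ, (∀ l ∈ w, l < 8) →
    eval outD (w.reverse.map invl) = (eval outD w)⁻¹
  | [], _ => by simp [eval]
  | l :: w, h => by
    rw [List.reverse_cons, List.map_append, eval_append,
      eval_inv_word w fun m hm => h m (List.mem_cons_of_mem _ hm)]
    simp [eval, show val outD (invl l) = (val outD l)⁻¹ from v_invl (h l List.mem_cons_self)]

/-- The subgroup generated by `a, …, f`. -/
def W : Subgroup ON := Subgroup.closure (Set.range OnWMain.img)

theorem wImg_mem (w : List (Fin 6)) : wImg w ∈ W := list_prod_mem fun y hy => by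
  obtain ⟨l, -, rfl⟩ := List.mem_map.mp hy
  exact Subgroup.subset_closure ⟨l, rfl⟩

theorem exists_lift : ∃ (η : OnWPres.pres.Gp →* ON) (e : OnWPres.pres.Gp ≃* OnWModel.M2),
    Function.Injective η ∧ η.range = W ∧
      (∀ w : List (Fin 6), η ((w.map PresentedGroup.of).prod) = wImg w) ∧
      ∀ w : List (Fin 6), e ((w.map PresentedGroup.of).prod) = (w.map OnWModel.x).prod := by
  obtain ⟨η, hη⟩ := OnWMain.exists_eta
  obtain ⟨e, he⟩ := OnWMain.exists_iso
  refine ⟨η, e, OnWMain.eta_injective η hη Cfsg.Agent.H59.ONRep.nontrivial_on, ?_, fun w => ?_, fun w => ?_⟩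
  · rw [MonoidHom.range_eq_map, ← PresentedGroup.closure_range_of, MonoidHom.map_closure, W]
    congr 1
    ext y
    constructor
    · rintro ⟨_, ⟨l, rfl⟩, rfl⟩
      exact ⟨l, (hη l).symm⟩
    · rintro ⟨l, rfl⟩
      exact ⟨_, ⟨l, rfl⟩, hη l⟩
  · rw [map_list_prod, List.map_map, wImg]
    congr 1
    exact List.map_congr_left fun l _ => hη l
  · rw [map_list_prod, List.map_map]
    congr 1
    exact List.map_congr_left fun l _ => he l

/-- An element of `⟨a, …, f⟩` with the commutation of a specification is listed. -/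
theorem cent_sound (S : Spec) (hd : S.dataOK = true) (hc : S.check = true) {g : ON} (hg : g ∈ W)
    (hy : g * wImg S.w = wImg S.w * g)
    (ho : ∀ ow n nd, S.o = some (ow, n, nd) → g * wImg ow = wImg ow * g) :
    ∃ u ∈ S.elts, g = wImg u.word := by
  obtain ⟨η, e, hinj, hr, hη, he⟩ := exists_lift
  rw [← hr] at hg
  obtain ⟨p, rfl⟩ := hg
  have tr : ∀ w, η p * wImg w = wImg w * η p →
      e p * (w.map OnWModel.x).prod = (w.map OnWModel.x).prod * e p := by
    intro w h
    rw [← hη, ← map_mul, ← map_mul] at h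
    rw [← he, ← map_mul, ← map_mul, hinj h]
  obtain ⟨u, hu, hu'⟩ := S.sound hd hc (e p) (tr _ hy) fun ow n nd h => tr _ (ho ow n nd h)
  refine ⟨u, hu, ?_⟩
  rw [← he] at hu'
  rw [e.injective hu', hη]

/-- Conjugate elements of `⟨a, …, f⟩` have the same parity. -/
theorem parity_eq {g : ON} (hg : g ∈ W) (w w' : List (Fin 6)) (h : g * wImg w = wImg w' * g) :
    (OnWModel.evalM w).2.2 = (OnWModel.evalM w').2.2 := by
  obtain ⟨η, e, hinj, hr, hη, he⟩ := exists_lift
  rw [← hr] at hg
  obtain ⟨p, rfl⟩ := hg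
  rw [← hη, ← hη, ← map_mul, ← map_mul] at h
  have h2 : SemidirectProduct.rightHom (e p) * SemidirectProduct.rightHom ((w.map OnWModel.x).prod) =
      SemidirectProduct.rightHom ((w'.map OnWModel.x).prod) * SemidirectProduct.rightHom (e p) := by
    rw [← map_mul, ← map_mul, ← he, ← he, ← map_mul, ← map_mul, hinj h]
  rw [mul_comm] at h2
  have h3 := mul_right_cancel h2
  obtain ⟨A, -, -, hA⟩ := OnWModel.evalM_spec w
  obtain ⟨A', -, -, hA'⟩ := OnWModel.evalM_spec w'
  rw [hA, hA', map_mul, map_mul, SemidirectProduct.rightHom_inl, SemidirectProduct.rightHom_inl,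
    one_mul, one_mul] at h3
  have ht : SemidirectProduct.rightHom OnWModel.t = Multiplicative.ofAdd (1 : ZMod 2) :=
    SemidirectProduct.rightHom_inr _
  rcases hb : (OnWModel.evalM w).2.2 with _ | _ <;> rcases hb' : (OnWModel.evalM w').2.2 with _ | _ <;>
    simp [hb, hb', ht] at h3 ⊢ <;> exact absurd h3 (by decide)

theorem W_fin {w : List ℕ} (h : ∀ l ∈ w, l < 6) :
    eval outD w = wImg (w.map (Fin.ofNat 6)) := by
  rw [← eval_fin, List.map_map]
  congr 1
  nth_rewrite 1 [← List.map_id w]
  exact List.map_congr_left fun l hl => (Nat.mod_eq_of_lt (h l hl)).symm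

theorem v_word (i : ℕ) (hi : i < 90) (w : List (Fin 6))
    (h : outD.getD i [] = w.map Fin.val) : v (8 + i) = wImg w := by
  rw [v_def i hi, h, eval_fin]

theorem gX_eq : gX = wImg wX := v_word 0 (by norm_num) wX rfl

theorem gN_eq : gN = wImg wN := v_word 2 (by norm_num) wN rfl

theorem gX_mem : gX ∈ W := gX_eq ▸ wImg_mem _

theorem gN_mem : gN ∈ W := gN_eq ▸ wImg_mem _

section
variable (hs : IsSimpleGroup ON)
include hs

theorem id_one {L : List (List ℕ × ℕ)} (h : L.all (chkId outE 90) = true) :
    ∀ p ∈ L, eval outD p.1 = 1 :=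
  fun p hp => eval_eq_one out_ok hs (List.all_eq_true.mp h p hp)

theorem idInv_one {a b : ℕ} {c : ℕ} (h : ([a, b], c) ∈ idInv) : v b = (v a)⁻¹ := by
  have := id_one hs idInv_ok _ h
  simp only [eval, List.map_cons, List.map_nil, List.prod_cons, List.prod_nil, mul_one] at this
  exact eq_inv_of_mul_eq_one_right this

theorem vXi : v pXi = gX⁻¹ := idInv_one hs (c := 1) (by decide)

theorem vNi : v pNi = gN⁻¹ := idInv_one hs (c := 1) (by decide)

end

end Cfsg.Agent.H59.ONOut
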