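import Cfsg.Agent.H59.ONRep.Complete
import Mathlib.LinearAlgebra.Matrix.GeneralLinearGroup.Basic

/-!
Straight-line programmes in the presented O'Nan group, followed in the matrices: further letters
are defined as products of earlier ones and carry packed matrices, so that identities and
inequalities between long words need few matrix products.
-/

set_option autoImplicit false
set_option maxRecDepth 20000

namespace Cfsg.Agent.H59.ONOut

open Cfsg.Spor
open Cfsg.Agent.H59.ONRep
open Cfsg.Agent.H59.ONMult (letterFun)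

/-- Evaluate a word on packed rows and hand the result on. -/
noncomputable def runP (M : ℕ) (G : List (List ℕ)) (k : List ℕ → Bool) : List ℕ → List ℕ → Bool
  | [], P => k P
  | l :: w, P => stepL M (G.getD l []) P fun P' => runP M G k w P'

theorem runP_sound {G : List (List ℕ)} {k : List ℕ → Bool} :
    ∀ {w : List ℕ} {P : List ℕ} {A : Matrix (Fin 45) (Fin 45) (ZMod 7)},
      (∀ l ∈ w, (G.getD l []).length = 45) → Rep P A → runP (maskN 45) G k w P = true →
      ∃ Q, Rep Q (ev 45 G w.reverse * A) ∧ k Q = true := by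
  intro w
  induction w with
  | nil =>
    intro P A _ hA h
    exact ⟨P, by simpa [ev] using hA, h⟩
  | cons l w ih =>
    intro P A hl hA h
    simp only [runP, stepL_eq] at h
    obtain ⟨Q, hQ, hk⟩ := ih (fun m hm => hl m (List.mem_cons_of_mem _ hm))
      (rep_step le_rfl hA (hl l List.mem_cons_self)) h
    refine ⟨Q, ?_, hk⟩
    rw [show ev 45 G (l :: w).reverse * A = ev 45 G w.reverse * (mat 45 (G.getD l []) * A) by
      simp [ev, mul_assoc]]
    exact hQ

/-- The word is none of the scalar matrices. -/
noncomputable def chkNS (G : List (List ℕ)) (w : List ℕ) : Bool :=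
  (w.all fun l => Nat.beq (G.getD l []).length 45) &&
    Cfsg.Agent.H45.force (maskN 45) fun M =>
      runP M G (fun Q => ([0, 1, 2, 3, 4, 5, 6] : List ℕ).all fun c => !beqL Q (toP 45 (scalG c)))
        w.reverse (toP 45 (idG 45))

theorem chkNS_sound {G : List (List ℕ)} {w : List ℕ} (h : chkNS G w = true) (r : ZMod 7) :
    ev 45 G w ≠ r • (1 : Matrix (Fin 45) (Fin 45) (ZMod 7)) := by
  intro he
  simp only [chkNS, Cfsg.Agent.H45.force_eq, Bool.and_eq_true, List.all_eq_true, Nat.beq_eq] at h
  obtain ⟨Q, hQ, hk⟩ := runP_sound (fun l hl => h.1 l (List.mem_reverse.mp hl))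
    (rep_toP (idG 45)) h.2
  rw [List.reverse_reverse, mat_idG, mul_one, he] at hQ
  have hr : r.val ∈ ([0, 1, 2, 3, 4, 5, 6] : List ℕ) :=
    (show ∀ s : ZMod 7, s.val ∈ ([0, 1, 2, 3, 4, 5, 6] : List ℕ) by decide) r
  have hk' := List.all_eq_true.mp hk _ hr
  have hT : Rep (toP 45 (scalG r.val)) (r • (1 : Matrix (Fin 45) (Fin 45) (ZMod 7))) := by
    have := rep_toP (N := 45) (scalG r.val)
    rwa [mat_scalG (ZMod.val_lt r), ZMod.natCast_zmod_val] at this
  rw [rep_canon hQ hT, beqL_refl] at hk'
  simp at hk'

/-- The rows of all letters. -/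
def ext (E : List (List ℕ)) : List (List ℕ) := mats ++ E

/-- The defining word of a further letter evaluates to its rows. -/
noncomputable def chkDef (E D : List (List ℕ)) (i : ℕ) : Bool :=
  (D.getD i []).all (fun l => Nat.blt l (8 + i)) && chk (ext E) (D.getD i []) (E.getD i [])

/-- The elements of the first letters. -/
noncomputable def vals (D : List (List ℕ)) : ℕ → ℕ → ON
  | 0 => letterFun ONMult.of
  | n + 1 => Function.update (vals D n) (8 + n) ((D.getD n []).map (vals D n)).prod

/-- The element of a letter. -/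
noncomputable def val (D : List (List ℕ)) (l : ℕ) : ON := vals D D.length l

/-- The element of a word. -/
noncomputable def eval (D : List (List ℕ)) (w : List ℕ) : ON := (w.map (val D)).prod

theorem eval_append (D : List (List ℕ)) (v w : List ℕ) : eval D (v ++ w) = eval D v * eval D w := by
  simp [eval]

theorem vals_eq_of_lt (D : List (List ℕ)) :
    ∀ (n m : ℕ), n ≤ m → ∀ l < 8 + n, vals D m l = vals D n l := by
  intro n m hnm
  induction hnm with
  | refl => intro l _; rfl
  | step hle ih =>
    intro l hl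
    replace hle := Nat.le_trans hle (Nat.le_refl _)
    rw [vals, Function.update_of_ne (by omega), ih l hl]

theorem val_letter (D : List (List ℕ)) {l : ℕ} (hl : l < 8) : val D l = letterFun ONMult.of l :=
  vals_eq_of_lt D 0 D.length (Nat.zero_le _) l (by omega)

theorem val_def (D : List (List ℕ)) {i : ℕ} (hi : i < D.length)
    (hw : ∀ l ∈ D.getD i [], l < 8 + i) : val D (8 + i) = eval D (D.getD i []) := by
  rw [val, vals_eq_of_lt D (i + 1) D.length hi (8 + i) (by omega), vals, Function.update_self, eval]
  congr 1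
  refine List.map_congr_left fun l hl => ?_
  exact (vals_eq_of_lt D i D.length (le_of_lt hi) l (hw l hl)).symm

/-- All checks of a programme. -/
def Ok (E D : List (List ℕ)) : Prop :=
  E.length = D.length ∧ ∀ i < D.length, chkDef E D i = true

theorem exists_unit_word {E : List (List ℕ)} {f : ℕ → ON} :
    ∀ {w : List ℕ}, (∀ l ∈ w, ∃ U : GL45,
        (U : Matrix (Fin 45) (Fin 45) (ZMod 7)) = mat 45 ((ext E).getD l []) ∧ rho (f l) = toP45 U) →
      ∃ U : GL45, (U : Matrix (Fin 45) (Fin 45) (ZMod 7)) = ev 45 (ext E) w ∧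
        rho (w.map f).prod = toP45 U := by
  intro w
  induction w with
  | nil => intro _; exact ⟨1, by simp [ev], by simp⟩
  | cons l w ih =>
    intro h
    obtain ⟨U, hU, hUr⟩ := h l List.mem_cons_self
    obtain ⟨V, hV, hVr⟩ := ih fun m hm => h m (List.mem_cons_of_mem _ hm)
    refine ⟨U * V, ?_, ?_⟩
    · rw [Units.val_mul, hU, hV]
      simp [ev]
    · rw [List.map_cons, List.prod_cons, map_mul, hUr, hVr, map_mul]

theorem exists_unit_letter {E D : List (List ℕ)} (hok : Ok E D) :
    ∀ n ≤ D.length, ∀ l < 8 + n, ∃ U : GL45,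
      (U : Matrix (Fin 45) (Fin 45) (ZMod 7)) = mat 45 ((ext E).getD l []) ∧
        rho (vals D n l) = toP45 U := by
  intro n
  induction n with
  | zero =>
    intro _ l hl
    have hl' : l < 8 := by omega
    refine ⟨letterFun genM l, ?_, ?_⟩
    · rw [letter_val l hl', ext, List.getD_append _ _ _ _ (by simpa [mats] using hl')]
      simp [ev]
    · rw [vals, Cfsg.Agent.H59.ONMult.letterFun_map,
        Cfsg.Agent.H59.ONMult.letterFun_map toP45 genM l]
      simp only [rho_of]
  | succ n ih =>
    intro hn l hl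
    have ih' := ih (by omega)
    by_cases h : l = 8 + n
    · subst h
      have hd := hok.2 n (by omega)
      simp only [chkDef, Bool.and_eq_true, List.all_eq_true, Nat.blt_eq] at hd
      obtain ⟨U, hU, hUr⟩ := exists_unit_word (f := vals D n) fun m hm => ih' m (hd.1 m hm)
      refine ⟨U, ?_, ?_⟩
      · rw [hU, chk_sound hd.2, ext, List.getD_append_right _ _ _ _ (by simp [mats]),
          show 8 + n - mats.length = n by simp [mats]]
      · rw [vals, Function.update_self, hUr]
    · rw [vals, Function.update_of_ne h]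
      exact ih' l (by omega)

theorem exists_unit {E D : List (List ℕ)} (hok : Ok E D) {w : List ℕ}
    (hw : ∀ l ∈ w, l < 8 + D.length) :
    ∃ U : GL45, (U : Matrix (Fin 45) (Fin 45) (ZMod 7)) = ev 45 (ext E) w ∧
      rho (eval D w) = toP45 U :=
  exists_unit_word fun l hl => exists_unit_letter hok D.length le_rfl l (hw l hl)

/-- A check that a word is a scalar cube root of unity. -/
noncomputable def chkId (E : List (List ℕ)) (n : ℕ) (p : List ℕ × ℕ) : Bool :=
  p.1.all (fun l => Nat.blt l (8 + n)) && (Nat.beq p.2 1 || Nat.beq p.2 2 || Nat.beq p.2 4) &&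
    chk (ext E) p.1 (scalG p.2)

/-- A check that a word is no scalar. -/
noncomputable def chkNo (E : List (List ℕ)) (n : ℕ) (w : List ℕ) : Bool :=
  w.all (fun l => Nat.blt l (8 + n)) && chkNS (ext E) w

theorem eval_eq_one {E D : List (List ℕ)} (hok : Ok E D) (hs : IsSimpleGroup ON)
    {p : List ℕ × ℕ} (h : chkId E D.length p = true) : eval D p.1 = 1 := by
  simp only [chkId, Bool.and_eq_true, Bool.or_eq_true, List.all_eq_true, Nat.blt_eq, Nat.beq_eq] at h
  obtain ⟨⟨hw, hc⟩, hchk⟩ := h
  obtain ⟨U, hU, hUr⟩ := exists_unit hok hw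
  refine rho_injective_of_simple hs ?_
  rw [map_one, hUr, QuotientGroup.mk'_apply, QuotientGroup.eq_one_iff,
    Matrix.GeneralLinearGroup.mem_center_iff_val_mem_range_scalar]
  refine ⟨(p.2 : ZMod 7), ?_⟩
  rw [hU, chk_sound hchk, mat_scalG (by omega), Matrix.scalar_apply, Matrix.smul_one_eq_diagonal]

theorem eval_ne_one {E D : List (List ℕ)} (hok : Ok E D) {w : List ℕ}
    (h : chkNo E D.length w = true) : eval D w ≠ 1 := by
  simp only [chkNo, Bool.and_eq_true, List.all_eq_true, Nat.blt_eq] at h
  obtain ⟨U, hU, hUr⟩ := exists_unit hok h.1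
  intro he
  rw [he, map_one, eq_comm, QuotientGroup.mk'_apply, QuotientGroup.eq_one_iff,
    Matrix.GeneralLinearGroup.mem_center_iff_val_mem_range_scalar] at hUr
  obtain ⟨r, hr⟩ := hUr
  refine chkNS_sound h.2 r ?_
  rw [← hU, ← hr, Matrix.scalar_apply, Matrix.smul_one_eq_diagonal]

end Cfsg.Agent.H59.ONOut
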